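import Groth.Agent.Lib.ProEtDC1.Series
import Mathlib.Algebra.Category.ModuleCat.Products
import Mathlib.RingTheory.Noetherian.Basic

/-!
Maps out of the completed constant sheaf into derived complete sheaves.
-/

universe u

open CategoryTheory Limits AlgebraicGeometry Opposite

namespace Groth.Agent.ProEtDC1

set_option backward.isDefEq.respectTransparency false
set_option backward.isDefEq.respectTransparency.types false
set_option linter.style.haveILetI false
set_option linter.unusedSectionVars false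
set_option maxHeartbeats 800000

open EtModW (ModP)

variable {Λ : Type (u + 1)} [CommRing Λ] {X : Scheme.{u}}

variable (X) in
/-- Constant sheaves. -/
noncomputable abbrev cst : ModuleCat.{u + 1} Λ ⥤ ModP Λ X :=
  constantSheaf (Scheme.ProEt.topology X) (ModuleCat.{u + 1} Λ)

/-- The terminal object. -/
noncomputable def topTerminal : IsTerminal (ProEtS.topP X) :=
  MorphismProperty.Over.mkIdTerminal _ X

/-- Constant sheaves are left adjoint to global sections. -/
noncomputable def cstAdj : cst (Λ := Λ) X ⊣ secF (ProEtS.topP X) :=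
  (constantSheafAdj _ _ topTerminal).ofNatIsoRight (NatIso.ofComponents fun _ => Iso.refl _)

instance : (cst (Λ := Λ) X).Additive :=
  haveI := (cstAdj (Λ := Λ) (X := X)).isLeftAdjoint
  haveI := preservesBinaryBiproducts_of_preservesBinaryCoproducts (cst (Λ := Λ) X)
  Functor.additive_of_preservesBinaryBiproducts _

instance : PreservesFiniteColimits (cst (Λ := Λ) X) :=
  haveI := (cstAdj (Λ := Λ) (X := X)).isLeftAdjoint
  inferInstance

instance : PreservesFiniteLimits (cst (Λ := Λ) X) := comp_preservesFiniteLimits _ _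

/-- Sections of a constant sheaf. -/
noncomputable abbrev CW (W : X.ProEt) (M : ModuleCat.{u + 1} Λ) : Type (u + 1) :=
  ((cst X).obj M).obj.obj (op W)

/-- The map on sections of constant sheaves. -/
noncomputable abbrev cmap (W : X.ProEt) {M N : Type (u + 1)} [AddCommGroup M] [Module Λ M] [AddCommGroup N]
    [Module Λ N] (g : M →ₗ[Λ] N) : CW W (ModuleCat.of Λ M) →ₗ[Λ] CW W (ModuleCat.of Λ N) :=
  secMap ((cst X).map (ModuleCat.ofHom g)) W

section Cmap

variable {M N L : Type (u + 1)} [AddCommGroup M] [Module Λ M] [AddCommGroup N] [Module Λ N] [AddCommGroup L]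
  [Module Λ L]

lemma cst_map_smul (c : Λ) (M : ModuleCat.{u + 1} Λ) :
    (cst X).map (ModuleCat.ofHom (c • LinearMap.id : M →ₗ[Λ] M)) = ProEtDC.smulHom Λ ((cst X).obj M) c := by
  apply Sheaf.hom_ext
  refine sheafify_hom_ext (Scheme.ProEt.topology X) _ _ ((cst X).obj M).property ?_
  refine (toSheafify_naturality (Scheme.ProEt.topology X)
    ((Functor.const X.ProEtᵒᵖ).map (ModuleCat.ofHom (c • LinearMap.id : M →ₗ[Λ] M)))).symm.trans ?_
  ext U x
  exact map_smul ((toSheafify (Scheme.ProEt.topology X) ((Functor.const X.ProEtᵒᵖ).obj M)).app U).hom c x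

lemma cmap_comp (W : X.ProEt) (g : M →ₗ[Λ] N) (h : N →ₗ[Λ] L) (x : CW W (ModuleCat.of Λ M)) :
    cmap W (h ∘ₗ g) x = cmap W h (cmap W g x) := by
  show secMap ((cst X).map (ModuleCat.ofHom g ≫ ModuleCat.ofHom h)) W x = _
  rw [Functor.map_comp]
  rfl

lemma cmap_id (W : X.ProEt) (x : CW W (ModuleCat.of Λ M)) : cmap W (LinearMap.id : M →ₗ[Λ] M) x = x := by
  show secMap ((cst X).map (𝟙 (ModuleCat.of Λ M))) W x = _
  rw [CategoryTheory.Functor.map_id]
  rfl

lemma cmap_zero (W : X.ProEt) (x : CW W (ModuleCat.of Λ M)) : cmap W (0 : M →ₗ[Λ] N) x = 0 := by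
  show secMap ((cst X).map (0 : ModuleCat.of Λ M ⟶ ModuleCat.of Λ N)) W x = _
  rw [Functor.map_zero]
  rfl

lemma cmap_add (W : X.ProEt) (g h : M →ₗ[Λ] N) (x : CW W (ModuleCat.of Λ M)) :
    cmap W (g + h) x = cmap W g x + cmap W h x := by
  show secMap ((cst X).map (ModuleCat.ofHom g + ModuleCat.ofHom h)) W x = _
  rw [Functor.map_add]
  rfl

lemma cmap_sum (W : X.ProEt) {ι : Type*} (s : Finset ι) (g : ι → M →ₗ[Λ] N) (x : CW W (ModuleCat.of Λ M)) :
    cmap W (∑ i ∈ s, g i) x = ∑ i ∈ s, cmap W (g i) x := by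
  classical
  induction s using Finset.induction_on with
  | empty => simp [cmap_zero]
  | @insert i s hi ih => rw [Finset.sum_insert hi, Finset.sum_insert hi, cmap_add, ih]

lemma cmap_smul (W : X.ProEt) (c : Λ) (g : M →ₗ[Λ] N) (x : CW W (ModuleCat.of Λ M)) :
    cmap W (c • g) x = c • cmap W g x := by
  rw [show c • g = (c • LinearMap.id : N →ₗ[Λ] N) ∘ₗ g from LinearMap.ext fun y => rfl, cmap_comp]
  show secMap ((cst X).map (ModuleCat.ofHom (c • LinearMap.id : N →ₗ[Λ] N))) W _ = _
  rw [show secMap ((cst X).map (ModuleCat.ofHom (c • LinearMap.id : N →ₗ[Λ] N))) W =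
    secMap (ProEtDC.smulHom Λ ((cst X).obj (ModuleCat.of Λ N)) c) W from
      congrArg (secMap · W) (cst_map_smul c (ModuleCat.of Λ N))]
  rfl

theorem cmap_exact {W : X.ProEt} (hW : ProEtS.IsWC W) (g : M →ₗ[Λ] N) (h : N →ₗ[Λ] L) (hgh : Function.Exact g h) :
    Function.Exact (cmap W g) (cmap W h) := by
  let S := ShortComplex.mk (ModuleCat.ofHom g) (ModuleCat.ofHom h)
    (ModuleCat.hom_ext (LinearMap.ext fun x => hgh.apply_apply_eq_zero x))
  have hS : S.Exact := (ShortComplex.moduleCat_exact_iff _).2 fun x hx => (hgh x).1 hx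
  exact secMap_exact (hS.map (cst X)) hW

theorem cmap_surjective {W : X.ProEt} (hW : ProEtS.IsWC W) (g : M →ₗ[Λ] N) (hg : Function.Surjective g) :
    Function.Surjective (cmap W g) :=
  haveI : Epi (ModuleCat.ofHom g) := (ModuleCat.epi_iff_surjective _).2 hg
  EtModEps19.wc_surjective hW ((cst X).map (ModuleCat.ofHom g))

lemma smul_eq_zero_of_annihilator (W : X.ProEt) {c : Λ} (hc : ∀ m : M, c • m = 0) (x : CW W (ModuleCat.of Λ M)) :
    c • x = 0 := by
  have h : (c • LinearMap.id : M →ₗ[Λ] M) = 0 := LinearMap.ext hc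
  conv_lhs => rw [← cmap_id W x, ← cmap_smul, h, cmap_zero]

end Cmap

variable {r : ℕ} (a : Fin r → Λ)

/-- The linear form given by the monomials of degree `n`. -/
noncomputable def lform (n : ℕ) : (↥(expo r n) → Λ) →ₗ[Λ] Λ :=
  ∑ α : ↥(expo r n), mon a α.1 • LinearMap.proj α

lemma lform_apply (n : ℕ) (v : ↥(expo r n) → Λ) : lform a n v = ∑ α : ↥(expo r n), mon a α.1 * v α := by
  simp [lform]

/-- The reduction map. -/
noncomputable abbrev red (I : Ideal Λ) (n : ℕ) : Λ →ₗ[Λ] Λ ⧸ (I ^ n • ⊤ : Submodule Λ Λ) :=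
  Submodule.mkQ _

lemma exact_lform_red (n : ℕ) : Function.Exact (lform a n) (red (Ideal.span (Set.range a)) n) := by
  classical
  intro x
  rw [Submodule.mkQ_apply, Submodule.Quotient.mk_eq_zero, smul_eq_mul, Ideal.mul_top]
  refine ⟨fun hx => ?_, ?_⟩
  · have hx' := pow_le_span_mon a n hx
    refine Submodule.span_induction (p := fun y _ => y ∈ Set.range (lform a n)) ?_ ⟨0, map_zero _⟩ ?_ ?_ hx'
    · rintro _ ⟨α, hα, rfl⟩
      refine ⟨Pi.single ⟨α, hα⟩ 1, ?_⟩
      rw [lform_apply, Finset.sum_eq_single ⟨α, hα⟩] <;> simp +contextual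
    · rintro _ _ _ _ ⟨v, rfl⟩ ⟨w, rfl⟩
      exact ⟨v + w, map_add _ _ _⟩
    · rintro c _ _ ⟨v, rfl⟩
      exact ⟨c • v, map_smul _ _ _⟩
  · rintro ⟨v, rfl⟩
    rw [lform_apply]
    refine Ideal.sum_mem _ fun α _ => Ideal.mul_mem_right _ _ ?_
    have h : mon a α.1 ∈ Ideal.span (Set.range a) ^ deg α.1 := by
      rw [mon, deg, ← Finset.prod_pow_eq_pow_sum]
      exact Ideal.prod_mem_prod fun i _ => Ideal.pow_mem_pow (Ideal.subset_span (Set.mem_range_self (f := a) i)) _
    rwa [mem_expo.1 α.2] at h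

lemma cmap_lform (W : X.ProEt) (n : ℕ) (x : CW W (ModuleCat.of Λ (↥(expo r n) → Λ))) :
    cmap W (lform a n) x = ∑ α : ↥(expo r n), mon a α.1 • cmap W (LinearMap.proj α) x := by
  simp only [lform, cmap_sum, cmap_smul]

/-- Sections with vanishing reduction are combinations of monomials. -/
theorem exists_of_red_eq_zero {W : X.ProEt} (hW : ProEtS.IsWC W) (n : ℕ) (x : CW W (ModuleCat.of Λ Λ))
    (hx : cmap W (red (Ideal.span (Set.range a)) n) x = 0) :
    ∃ d : (Fin r → ℕ) → CW W (ModuleCat.of Λ Λ), ∑ α ∈ expo r n, mon a α • d α = x := by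
  classical
  obtain ⟨y, rfl⟩ := (cmap_exact hW _ _ (exact_lform_red a n) x).1 hx
  refine ⟨fun α => if h : α ∈ expo r n then cmap W (LinearMap.proj ⟨α, h⟩) y else 0, ?_⟩
  rw [cmap_lform, ← Finset.sum_coe_sort]
  exact Finset.sum_congr rfl fun α _ => by simp [α.2]

/-- Relations among monomials with coefficients in sections of the constant sheaf. -/
theorem exists_of_relation [IsNoetherianRing Λ] {W : X.ProEt} (hW : ProEtS.IsWC W) (n : ℕ)
    (z : (Fin r → ℕ) → CW W (ModuleCat.of Λ Λ)) (hz : ∑ α ∈ expo r n, mon a α • z α = 0) :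
    ∃ (m : ℕ) (v : Fin m → (Fin r → ℕ) → Λ) (e : Fin m → CW W (ModuleCat.of Λ Λ)),
      (∀ i, ∑ α ∈ expo r n, mon a α * v i α = 0) ∧ ∀ α ∈ expo r n, z α = ∑ i, v i α • e i := by
  classical
  obtain ⟨m, g, hg⟩ := Submodule.fg_iff_exists_fin_generating_family.1 (IsNoetherian.noetherian (lform a n).ker)
  let G : (Fin m → Λ) →ₗ[Λ] (↥(expo r n) → Λ) := Fintype.linearCombination Λ g
  have hG : Function.Exact G (lform a n) := by
    rw [LinearMap.exact_iff, ← hg, Fintype.range_linearCombination]
  let ζ : CW W (ModuleCat.of Λ (↥(expo r n) → Λ)) :=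
    ∑ α : ↥(expo r n), cmap W (LinearMap.single Λ (fun _ => Λ) α) (z α.1)
  have hproj : ∀ β : ↥(expo r n), cmap W (LinearMap.proj β) ζ = z β.1 := fun β => by
    simp only [ζ, map_sum]
    rw [Finset.sum_eq_single β]
    · rw [← cmap_comp, LinearMap.proj_comp_single_same, cmap_id]
    · intro α _ hne
      rw [← cmap_comp, LinearMap.proj_comp_single_ne Λ (fun _ : ↥(expo r n) => Λ) β α (Ne.symm hne), cmap_zero]
    · simp
  have hζ : cmap W (lform a n) ζ = 0 := by
    simp only [cmap_lform, hproj]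
    rw [Finset.sum_coe_sort (expo r n) fun α => mon a α • z α, hz]
  obtain ⟨y, hy⟩ := (cmap_exact hW _ _ hG ζ).1 hζ
  refine ⟨m, fun i α => if h : α ∈ expo r n then g i ⟨α, h⟩ else 0, fun i => cmap W (LinearMap.proj i) y,
    fun i => ?_, fun α hα => ?_⟩
  · have hi : g i ∈ (lform a n).ker := hg ▸ Submodule.subset_span ⟨i, rfl⟩
    rw [LinearMap.mem_ker, lform_apply] at hi
    rw [← Finset.sum_coe_sort]
    refine (Finset.sum_congr rfl fun α _ => ?_).trans hi
    simp [α.2]
  · rw [← hproj ⟨α, hα⟩, ← hy, ← cmap_comp]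
    have hdec : (LinearMap.proj ⟨α, hα⟩ : (↥(expo r n) → Λ) →ₗ[Λ] Λ) ∘ₗ G =
        ∑ i, g i ⟨α, hα⟩ • (LinearMap.proj i : (Fin m → Λ) →ₗ[Λ] Λ) := LinearMap.ext fun w => by
      simp [G, Fintype.linearCombination_apply, mul_comm]
    rw [hdec, cmap_sum]
    exact Finset.sum_congr rfl fun i _ => by simp [cmap_smul, hα]

/-- The value of a series vanishing in the completion is zero. -/
theorem ser_eq_zero [IsNoetherianRing Λ] {W : X.ProEt} (hW : ProEtS.IsWC W) {M : Type (u + 1)} [AddCommGroup M]
    [Module Λ M] (hM : IsDCM a M) (γ : CW W (ModuleCat.of Λ Λ) →ₗ[Λ] M)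
    (b : (Fin r → ℕ) → CW W (ModuleCat.of Λ Λ))
    (hb : ∀ n, cmap W (red (Ideal.span (Set.range a)) n) (∑ i ∈ Finset.range n, ∑ α ∈ expo r i, mon a α • b α) = 0) :
    ser a hM (fun α => γ (b α)) = 0 := by
  classical
  let u' : ℕ → CW W (ModuleCat.of Λ Λ) := fun n => ∑ i ∈ Finset.range n, ∑ α ∈ expo r i, mon a α • b α
  choose d hd using fun n => exists_of_red_eq_zero a hW n (u' n) (hb n)
  let D : (Fin r → ℕ) → CW W (ModuleCat.of Λ Λ) := fun α => if α = 0 then 0 else d (deg α) α
  have hD : ∀ n, ∑ α ∈ expo r n, mon a α • D α = u' n := fun n => by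
    cases n with
    | zero =>
      rw [show u' 0 = 0 by simp [u']]
      refine Finset.sum_eq_zero fun α hα => ?_
      simp [D, deg_eq_zero.1 (mem_expo.1 hα)]
    | succ n =>
      rw [← hd (n + 1)]
      refine Finset.sum_congr rfl fun α hα => ?_
      have : α ≠ 0 := fun e => by
        have := mem_expo.1 hα
        rw [e, deg_eq_zero.2 rfl] at this
        omega
      simp [D, this, mem_expo.1 hα]
  have hD0 : D 0 = 0 := if_pos rfl
  let G := part D
  let z : (Fin r → ℕ) → CW W (ModuleCat.of Λ Λ) := fun α => b α + D α - ∑ k, a k • G k α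
  have hrel : ∀ n, ∑ α ∈ expo r n, mon a α • z α = 0 := fun n => by
    have h1 : ∑ α ∈ expo r n, mon a α • ∑ k, a k • G k α = u' (n + 1) := by
      rw [← hD (n + 1)]
      conv_rhs => rw [← sum_shiftK_part D hD0]
      simp only [Finset.sum_apply, Finset.smul_sum]
      rw [Finset.sum_comm, Finset.sum_comm (s := expo r (n + 1))]
      exact Finset.sum_congr rfl fun k _ => (sum_mon_shiftK a n k (G k)).symm
    simp only [z, smul_sub, smul_add, Finset.sum_sub_distrib, Finset.sum_add_distrib, h1, hD, u',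
      Finset.sum_range_succ]
    abel
  obtain ⟨c, hc⟩ := exists_rel_decomp a
  choose m v e hv he using fun n => exists_of_relation a hW n z (hrel n)
  choose p hp hp' using fun n i => hc n (v n i) (hv n i)
  let E : Fin r → (Fin r → ℕ) → CW W (ModuleCat.of Λ Λ) := fun k α =>
    ∑ n ∈ Finset.range (deg α + c + 1), ∑ i, p n i k α • e n i
  have hE : ∀ k α N, deg α + c < N → E k α = ∑ n ∈ Finset.range N, ∑ i, p n i k α • e n i := fun k α N hN => by
    refine Finset.sum_subset (Finset.range_subset_range.2 hN) fun n _ hn => ?_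
    rw [Finset.mem_range] at hn
    exact Finset.sum_eq_zero fun i _ => by rw [hp n i k α (by omega), zero_smul]
  have hz : ∀ α, z α = ∑ k, (shiftK k (E k) α - a k • E k α) := fun α => by
    let N := deg α + c + 2
    have hshift : ∀ k, shiftK k (E k) α = ∑ n ∈ Finset.range N, ∑ i, shiftK k (p n i k) α • e n i := fun k => by
      by_cases hk : α k = 0
      · simp [shiftK, hk]
      · simp only [shiftK, if_neg hk]
        refine hE k _ N ?_
        have := deg_up k (Function.update α k (α k - 1))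
        rw [up_down k hk] at this
        omega
    calc z α = ∑ n ∈ Finset.range N, ∑ i, (if deg α = n then v n i α else 0) • e n i := by
          rw [Finset.sum_eq_single (deg α)]
          · simp only [if_true]
            exact he _ α (mem_expo.2 rfl)
          · intro n _ hne; simp [Ne.symm hne]
          · intro h; exact absurd (Finset.mem_range.2 (show deg α < N by omega)) h
      _ = ∑ n ∈ Finset.range N, ∑ i, ∑ k, (shiftK k (p n i k) α - a k * p n i k α) • e n i := by
          simp only [hp', Finset.sum_smul]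
      _ = _ := by
          conv_lhs => rw [Finset.sum_congr rfl fun n _ => Finset.sum_comm, Finset.sum_comm]
          refine Finset.sum_congr rfl fun k _ => ?_
          rw [hshift, hE k α N (by omega)]
          simp only [sub_smul, mul_smul, Finset.sum_sub_distrib, Finset.smul_sum]
  have hsh : ∀ (k : Fin r) (f : (Fin r → ℕ) → CW W (ModuleCat.of Λ Λ)),
      (fun α => γ (shiftK k f α)) = shiftK k (fun α => γ (f α)) := fun k f => by
    funext α
    simp only [shiftK]
    split <;> simp
  have hγD : ser a hM (fun α => γ (D α)) = ∑ k, a k • ser a hM (fun α => γ (G k α)) := by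
    conv_lhs => rw [← sum_shiftK_part D hD0]
    simp only [Finset.sum_apply, map_sum]
    rw [show (fun α => ∑ k, γ (shiftK k (part D k) α)) = ∑ k, fun α => γ (shiftK k (part D k) α) from
      funext fun α => by simp, map_sum]
    exact Finset.sum_congr rfl fun k _ => by rw [hsh, ser_shiftK]
  have hγz : ser a hM (fun α => γ (z α)) = 0 := by
    rw [show (fun α => γ (z α)) = ∑ k, (shiftK k (fun α => γ (E k α)) - a k • fun α => γ (E k α)) from
      funext fun α => by simp [hz, ← hsh], map_sum]
    exact Finset.sum_eq_zero fun k _ => by rw [map_sub, map_smul, ser_shiftK, sub_self]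
  have hdec : (fun α => γ (z α)) = (fun α => γ (b α)) + (fun α => γ (D α)) - ∑ k, a k • fun α => γ (G k α) := by
    funext α
    simp [z]
  rw [hdec, map_sub, map_add, map_sum, hγD] at hγz
  simpa using hγz

/-- The constant sheaf `Λ`. -/
noncomputable abbrev cOne (Λ : Type (u + 1)) [CommRing Λ] (X : Scheme.{u}) : ModP Λ X :=
  (cst X).obj (ModuleCat.of Λ Λ)

/-- Families of sections of the constant sheaf indexed by exponents. -/
noncomputable abbrev seriesObj (Λ : Type (u + 1)) [CommRing Λ] (X : Scheme.{u}) (r : ℕ) : ModP Λ X :=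
  ∏ᶜ fun _ : ULift.{u + 1} (Fin r → ℕ) => cOne Λ X

/-- A coefficient. -/
noncomputable abbrev coef (U : X.ProEt) (x : (seriesObj Λ X r).obj.obj (op U)) (α : Fin r → ℕ) :
    (cOne Λ X).obj.obj (op U) :=
  secMap (Pi.π (fun _ : ULift.{u + 1} (Fin r → ℕ) => cOne Λ X) ⟨α⟩) U x

lemma coef_exists (U : X.ProEt) (b : (Fin r → ℕ) → (cOne Λ X).obj.obj (op U)) :
    ∃ x : (seriesObj Λ X r).obj.obj (op U), coef U x = b := by
  obtain ⟨y, hy, -⟩ := surjective_of_lifts U (Discrete.functor fun _ : ULift.{u + 1} (Fin r → ℕ) => cOne Λ X)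
    fun j => b j.down
  exact ⟨y, funext fun α => hy ⟨α⟩⟩

lemma isDCM_sections {F : ModP Λ X} (hF : SecDC (Ideal.span (Set.range a)) F) (U : X.ProEt) :
    IsDCM a (F.obj.obj (op U)) := fun k => by
  haveI := (isIso_tau_iff (a k) F).2 (hF (a k) (Ideal.subset_span ⟨k, rfl⟩))
  rw [bijective_shiftSub_iff]
  haveI : IsIso ((secF U).map ((tau I0 succ0 (theta (a k))).app F)) := inferInstance
  exact ConcreteCategory.bijective_of_isIso ((secF U).map ((tau I0 succ0 (theta (a k))).app F))

/-- The evaluation of series. -/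
noncomputable def serHom {F : ModP Λ X} (hF : SecDC (Ideal.span (Set.range a)) F) (γ : cOne Λ X ⟶ F) :
    seriesObj Λ X r ⟶ F :=
  ⟨{ app := fun U => ModuleCat.ofHom (ser a (isDCM_sections a hF U.unop) ∘ₗ
      LinearMap.pi fun α => secMap γ U.unop ∘ₗ
        secMap (Pi.π (fun _ : ULift.{u + 1} (Fin r → ℕ) => cOne Λ X) ⟨α⟩) U.unop)
     naturality := fun U V g => by
      ext x
      refine Eq.trans ?_ (ser_natural (F.obj.map g).hom a (isDCM_sections a hF U.unop)
        (isDCM_sections a hF V.unop) _).symm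
      show ser a _ _ = ser a _ _
      congr 1
      funext α
      exact (congrArg (γ.hom.app V) (NatTrans.naturality_apply
        (Pi.π (fun _ : ULift.{u + 1} (Fin r → ℕ) => cOne Λ X) ⟨α⟩).hom g x)).trans
          (NatTrans.naturality_apply γ.hom g _) }⟩

lemma serHom_apply {F : ModP Λ X} (hF : SecDC (Ideal.span (Set.range a)) F) (γ : cOne Λ X ⟶ F) (U : X.ProEt)
    (x : (seriesObj Λ X r).obj.obj (op U)) :
    secMap (serHom a hF γ) U x = ser a (isDCM_sections a hF U) (fun α => secMap γ U (coef U x α)) := rfl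

theorem secDC_lambdaHat (I : Ideal Λ) : SecDC I (ProEtDC.lambdaHat Λ X I) :=
  secDC_limit _ fun n => secDC_const fun f hf => ⟨n.unop, fun x => by
    obtain ⟨y, rfl⟩ := Submodule.Quotient.mk_surjective _ x
    refine (Submodule.Quotient.mk_smul _ _ _).symm.trans ((Submodule.Quotient.mk_eq_zero _).2 ?_)
    exact Submodule.smul_mem_smul (Ideal.pow_mem_pow hf _) Submodule.mem_top⟩

/-- The completion map. -/
noncomputable def eta (I : Ideal Λ) : cOne Λ X ⟶ ProEtDC.lambdaHat Λ X I :=
  limit.lift (ProEtDC.quotTower Λ I ⋙ cst X) (Cone.mk (cOne Λ X)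
    { app := fun n => (cst X).map (ModuleCat.ofHom (red I n.unop))
      naturality := fun n m g => by
        dsimp
        rw [Category.id_comp, ← Functor.map_comp]
        congr 1 })

/-- Sections of the projection of the completion. -/
noncomputable abbrev level (I : Ideal Λ) (n : ℕ) (U : X.ProEt) :
    (ProEtDC.lambdaHat Λ X I).obj.obj (op U) →ₗ[Λ] CW U (ModuleCat.of Λ (Λ ⧸ (I ^ n • ⊤ : Submodule Λ Λ))) :=
  secMap (limit.π (ProEtDC.quotTower Λ I ⋙ cst X) (op n)) U

lemma level_eta (I : Ideal Λ) (n : ℕ) (U : X.ProEt) (y : (cOne Λ X).obj.obj (op U)) :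
    level I n U (secMap (eta I) U y) = cmap U (red I n) y := by
  have h := congrArg (fun φ => secMap φ U y) (limit.lift_π (F := ProEtDC.quotTower Λ I ⋙ cst X)
    (Cone.mk (cOne Λ X)
    { app := fun n => (cst X).map (ModuleCat.ofHom (red I n.unop))
      naturality := fun n m g => by
        dsimp
        rw [Category.id_comp, ← Functor.map_comp]
        congr 1 }) (op n))
  exact h

lemma level_serHom (n : ℕ) (U : X.ProEt) (x : (seriesObj Λ X r).obj.obj (op U)) :
    level (Ideal.span (Set.range a)) n U (secMap (serHom a (secDC_lambdaHat _) (eta _)) U x) =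
      cmap U (red (Ideal.span (Set.range a)) n) (∑ i ∈ Finset.range n, ∑ α ∈ expo r i, mon a α • coef U x α) := by
  have h := ser_sub_trunc_mem a (isDCM_sections a (secDC_lambdaHat (Ideal.span (Set.range a))) U) n
    (fun α => secMap (eta (Ideal.span (Set.range a))) U (coef U x α))
  have h2 : level (Ideal.span (Set.range a)) n U (secMap (serHom a (secDC_lambdaHat _) (eta _)) U x -
      ∑ i ∈ Finset.range n, ∑ α ∈ expo r i, mon a α • secMap (eta _) U (coef U x α)) = 0 := by
    refine Submodule.smul_induction_on (p := fun y => level (Ideal.span (Set.range a)) n U y = 0) h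
      (fun c hc y _ => ?_) (fun y z hy hz => by rw [map_add, hy, hz, add_zero])
    rw [map_smul]
    refine smul_eq_zero_of_annihilator U (fun m => ?_) _
    obtain ⟨m, rfl⟩ := Submodule.Quotient.mk_surjective _ m
    rw [← Submodule.Quotient.mk_smul, Submodule.Quotient.mk_eq_zero]
    exact Submodule.smul_mem_smul hc Submodule.mem_top
  rw [map_sub, sub_eq_zero] at h2
  rw [h2]
  simp only [map_sum, map_smul, level_eta]

theorem epi_serHom_eta : Epi (serHom (X := X) a (secDC_lambdaHat (Ideal.span (Set.range a))) (eta _)) := by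
  classical
  refine epi_of_surjective_wc _ fun W hW x => ?_
  let I := Ideal.span (Set.range a)
  choose y₀ hy₀ using fun n => cmap_surjective (X := X) hW (red I n) (Submodule.mkQ_surjective _) (level I n W x)
  let y : ℕ → (cOne Λ X).obj.obj (op W) := fun n => if n = 0 then 0 else y₀ n
  have hy : ∀ n, cmap W (red I n) (y n) = level I n W x := fun n => by
    by_cases hn : n = 0
    · subst hn
      have : Subsingleton (Λ ⧸ (I ^ 0 • ⊤ : Submodule Λ Λ)) :=
        Submodule.Quotient.subsingleton_iff.2 (by simp)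
      have h0 : ∀ w : CW W (ModuleCat.of Λ (Λ ⧸ (I ^ 0 • ⊤ : Submodule Λ Λ))), w = 0 := fun w => by
        rw [← one_smul Λ w]
        exact smul_eq_zero_of_annihilator W (fun m => Subsingleton.elim _ _) w
      exact (h0 _).trans (h0 _).symm
    · simp only [y, if_neg hn, hy₀]
  have hdiff : ∀ n, cmap W (red I n) (y (n + 1) - y n) = 0 := fun n => by
    rw [map_sub, hy, sub_eq_zero]
    refine Eq.trans ?_ congr($(limit.w (ProEtDC.quotTower Λ I ⋙ cst X)
      (homOfLE n.le_succ).op).hom.app (op W) x)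
    show _ = secMap ((cst X).map (ModuleCat.ofHom (Submodule.factorPow I Λ n.le_succ))) W (level I (n + 1) W x)
    rw [← hy (n + 1)]
    show _ = cmap W (Submodule.factorPow I Λ n.le_succ) (cmap W (red I (n + 1)) (y (n + 1)))
    rw [← cmap_comp]
    congr 2
  choose d hd using fun n => exists_of_red_eq_zero a hW n _ (hdiff n)
  obtain ⟨z, hz⟩ := coef_exists W fun α => d (deg α) α
  have hsum : ∀ n, ∑ i ∈ Finset.range n, ∑ α ∈ expo r i, mon a α • coef W z α = y n := fun n => by
    induction n with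
    | zero => simp [y]
    | succ n ih =>
      rw [Finset.sum_range_succ, ih, Finset.sum_congr rfl fun α hα => show mon a α • coef W z α = mon a α • d n α by
          simp [hz, mem_expo.1 hα], hd,
        add_sub_cancel]
  refine ⟨z, ?_⟩
  have hl := (Types.isLimit_iff ((secF W ⋙ forget _).mapCone (limit.cone (ProEtDC.quotTower Λ I ⋙ cst X)))).1
    ⟨isLimitOfPreserves (secF W ⋙ forget _) (limit.isLimit _)⟩
  refine (hl (fun j => level I j.unop W x) fun {i j} g =>
    congr($(limit.w (ProEtDC.quotTower Λ I ⋙ cst X) g).hom.app (op W) x)).unique (fun j => ?_) fun j => rfl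
  show level I j.unop W _ = level I j.unop W x
  refine (level_serHom a j.unop W z).trans ?_
  rw [hsum, hy]

/-- A map from the constant sheaf into a derived complete sheaf extends to the completion. -/
theorem exists_desc [IsNoetherianRing Λ] {F : ModP Λ X} (hF : SecDC (Ideal.span (Set.range a)) F)
    (γ : cOne Λ X ⟶ F) : ∃ φ : ProEtDC.lambdaHat Λ X (Ideal.span (Set.range a)) ⟶ F, eta _ ≫ φ = γ := by
  classical
  let ψ := serHom (X := X) a (secDC_lambdaHat (Ideal.span (Set.range a))) (eta _)
  haveI : Epi ψ := epi_serHom_eta a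
  have hk : kernel.ι ψ ≫ serHom a hF γ = 0 := EtModEps19.hom_ext_wc _ _ fun W hW x => by
    show secMap (serHom a hF γ) W (secMap (kernel.ι ψ) W x) = 0
    rw [serHom_apply]
    refine ser_eq_zero a hW _ (secMap γ W) _ fun n => ?_
    rw [← level_serHom]
    have : secMap ψ W (secMap (kernel.ι ψ) W x) = 0 := congr($(kernel.condition ψ).hom.app (op W) x)
    rw [this, map_zero]
  refine ⟨Abelian.epiDesc ψ _ hk, ?_⟩
  let j : cOne Λ X ⟶ seriesObj Λ X r := Pi.lift fun α => if α.down = 0 then 𝟙 _ else 0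
  have hj : ∀ {G : ModP Λ X} (hG : SecDC (Ideal.span (Set.range a)) G) (δ : cOne Λ X ⟶ G),
      j ≫ serHom a hG δ = δ := fun {G} hG δ => EtModEps19.hom_ext_wc _ _ fun W hW x => by
    show secMap (serHom a hG δ) W (secMap j W x) = secMap δ W x
    rw [serHom_apply]
    conv_rhs => rw [← ser_single_zero a (isDCM_sections a hG W) (secMap δ W x)]
    congr 1
    funext α
    have h := congrArg (fun φ => secMap φ W x) (Pi.lift_π
      (fun β : ULift.{u + 1} (Fin r → ℕ) => if β.down = 0 then 𝟙 (cOne Λ X) else 0) ⟨α⟩)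
    rw [show coef W (secMap j W x) α = _ from h]
    split <;> simp [secMap]
  calc eta _ ≫ Abelian.epiDesc ψ _ hk = (j ≫ ψ) ≫ Abelian.epiDesc ψ _ hk := by rw [hj]
    _ = γ := by rw [Category.assoc, Abelian.comp_epiDesc, hj]

end Groth.Agent.ProEtDC1
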