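import Groth.Agent.Lib.KInj.Derived
import Groth.Agent.Lib.KInj.DerivedAdj
import Mathlib.Algebra.Homology.DerivedCategory.KProjective
import Mathlib.Algebra.Homology.DerivedCategory.SingleTriangle
import Mathlib.Algebra.Homology.DerivedCategory.FullyFaithful
import Mathlib.CategoryTheory.Abelian.GrothendieckAxioms.Basic
import Mathlib.CategoryTheory.Adjunction.Mates
import Mathlib.Algebra.Homology.ShortComplex.PreservesHomology

/-!
Maps out of a countable telescope in a derived category: the endomorphism `(x_i) ↦ (x_i - θ x_{σ i})` of a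
power of the target controls the orthogonality.
-/

set_option autoImplicit false
set_option backward.isDefEq.respectTransparency false
set_option linter.style.haveILetI false
set_option linter.unusedSectionVars false

universe w v u

open CategoryTheory CategoryTheory.Limits CategoryTheory.Pretriangulated

namespace Groth.Agent.ProEtDC1

variable {B : Type u} [Category.{v} B] [Abelian B] (ι : Type v)
  [HasLimitsOfShape (Discrete ι) B] [HasColimitsOfShape (Discrete ι) B]

/-- A power functor. -/
noncomputable abbrev pow : B ⥤ B := Functor.const (Discrete ι) ⋙ lim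

/-- A copower functor. -/
noncomputable abbrev copow : B ⥤ B := Functor.const (Discrete ι) ⋙ colim

/-- Copowers are left adjoint to powers. -/
noncomputable def powAdj : copow (B := B) ι ⊣ pow (B := B) ι := constLimAdj.comp colimConstAdj

/-- A projection. -/
noncomputable abbrev prj (M : B) (i : ι) : (pow ι).obj M ⟶ M :=
  limit.π ((Functor.const (Discrete ι)).obj M) ⟨i⟩

@[reassoc]
lemma map_prj {M N : B} (f : M ⟶ N) (i : ι) : (pow ι).map f ≫ prj ι N i = prj ι M i ≫ f :=
  limMap_π ((Functor.const (Discrete ι)).map f) ⟨i⟩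

lemma pow_hom_ext {Z M : B} {a b : Z ⟶ (pow ι).obj M} (h : ∀ i, a ≫ prj ι M i = b ≫ prj ι M i) : a = b :=
  limit.hom_ext fun ⟨i⟩ => h i

instance : (pow (B := B) ι).Additive :=
  haveI := (powAdj (B := B) ι).isRightAdjoint
  Functor.additive_of_preserves_binary_products _

instance : (copow (B := B) ι).Additive :=
  haveI := (powAdj (B := B) ι).isLeftAdjoint
  haveI := preservesBinaryBiproducts_of_preservesBinaryCoproducts (copow (B := B) ι)
  Functor.additive_of_preservesBinaryBiproducts _

instance : PreservesFiniteLimits (pow (B := B) ι) :=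
  haveI := (powAdj (B := B) ι).isRightAdjoint
  inferInstance

instance : PreservesFiniteColimits (copow (B := B) ι) :=
  haveI := (powAdj (B := B) ι).isLeftAdjoint
  inferInstance

instance [HasExactLimitsOfShape (Discrete ι) B] : PreservesFiniteColimits (pow (B := B) ι) :=
  comp_preservesFiniteColimits _ _

instance [HasExactColimitsOfShape (Discrete ι) B] : PreservesFiniteLimits (copow (B := B) ι) :=
  comp_preservesFiniteLimits _ _

variable (σ : ι → ι) (θ : 𝟭 B ⟶ 𝟭 B)

/-- A component of `θ`. -/
abbrev th (M : B) : M ⟶ M := θ.app M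

/-- The endomorphism `(x_i) ↦ (x_i - θ x_{σ i})` of a power. -/
noncomputable def tau : pow (B := B) ι ⟶ pow (B := B) ι where
  app M := limit.lift ((Functor.const (Discrete ι)).obj M)
    (Cone.mk ((pow ι).obj M) (Discrete.natTrans fun i => prj ι M i.as - prj ι M (σ i.as) ≫ th θ M))
  naturality M N f := by
    refine pow_hom_ext ι fun i => ?_
    simp only [Category.assoc, map_prj]
    simp only [limit.lift_π, limit.lift_π_assoc, Discrete.natTrans_app, Preadditive.comp_sub, Preadditive.sub_comp,
      map_prj, map_prj_assoc, Category.assoc]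
    erw [map_prj_assoc]
    rw [show f ≫ th θ N = th θ M ≫ f from θ.naturality f]

@[reassoc]
lemma tau_prj (M : B) (i : ι) :
    (tau ι σ θ).app M ≫ prj ι M i = prj ι M i - prj ι M (σ i) ≫ th θ M :=
  limit.lift_π _ _

/-- The endomorphism of a copower conjugate to `tau`. -/
noncomputable def delta : copow (B := B) ι ⟶ copow (B := B) ι :=
  (conjugateEquiv (powAdj ι) (powAdj ι)).symm (tau ι σ θ)

lemma homEquiv_delta {P M : B} (g : (copow ι).obj P ⟶ M) :
    (powAdj ι).homEquiv P M ((delta ι σ θ).app P ≫ g) = (powAdj ι).homEquiv P M g ≫ (tau ι σ θ).app M := by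
  have h := unit_conjugateEquiv (powAdj (B := B) ι) (powAdj ι) (delta ι σ θ) P
  rw [delta, Equiv.apply_symm_apply] at h
  rw [Adjunction.homEquiv_unit, Adjunction.homEquiv_unit, Functor.map_comp, ← Category.assoc]
  refine (congrArg (· ≫ (pow ι).map g) h.symm).trans ?_
  rw [Category.assoc, Category.assoc]
  exact congrArg (_ ≫ ·) ((tau ι σ θ).naturality g).symm

lemma projective_copow [HasExactLimitsOfShape (Discrete ι) B] (P : B) [Projective P] :
    Projective ((copow ι).obj P) where
  factors {E X} f e _ := by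
    haveI : Epi ((pow ι).map e) := inferInstance
    refine ⟨((powAdj ι).homEquiv P E).symm
      (Projective.factorThru ((powAdj ι).homEquiv P X f) ((pow ι).map e)), ?_⟩
    rw [← Adjunction.homEquiv_naturality_right_symm, Projective.factorThru_comp, Equiv.symm_apply_apply]

section Complexes

open HomologicalComplex

/-- The adjunction on complexes. -/
noncomputable abbrev adjC := KInjLib.adjComplexes (powAdj (B := B) ι) (ComplexShape.up ℤ)

/-- `delta` on complexes. -/
noncomputable abbrev deltaC := NatTrans.mapHomologicalComplex (delta ι σ θ) (ComplexShape.up ℤ)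

/-- `tau` on complexes. -/
noncomputable abbrev tauC := NatTrans.mapHomologicalComplex (tau ι σ θ) (ComplexShape.up ℤ)

lemma homEquiv_deltaC {P M : CochainComplex B ℤ}
    (g : ((copow ι).mapHomologicalComplex _).obj P ⟶ M) :
    (adjC ι).homEquiv P M ((deltaC ι σ θ).app P ≫ g) = (adjC ι).homEquiv P M g ≫ (tauC ι σ θ).app M := by
  ext i
  have h := homEquiv_delta ι σ θ (g.f i)
  rw [Adjunction.homEquiv_unit, Adjunction.homEquiv_unit] at h ⊢
  exact h

lemma quotient_eq_iff {P M : CochainComplex B ℤ} (f g : ((copow ι).mapHomologicalComplex _).obj P ⟶ M) :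
    (HomotopyCategory.quotient B _).map f = (HomotopyCategory.quotient B _).map g ↔
      (HomotopyCategory.quotient B _).map ((adjC ι).homEquiv P M f) =
        (HomotopyCategory.quotient B _).map ((adjC ι).homEquiv P M g) := by
  constructor
  · intro h
    rw [Adjunction.homEquiv_unit, Adjunction.homEquiv_unit, Functor.map_comp, Functor.map_comp]
    exact congrArg (_ ≫ ·) (HomotopyCategory.eq_of_homotopy _ _
      ((pow ι).mapHomotopy (HomotopyCategory.homotopyOfEq _ _ h)))
  · intro h
    rw [← ((adjC ι).homEquiv P M).symm_apply_apply f, ← ((adjC ι).homEquiv P M).symm_apply_apply g,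
      Adjunction.homEquiv_counit, Adjunction.homEquiv_counit, Functor.map_comp, Functor.map_comp]
    exact congrArg (· ≫ _) (HomotopyCategory.eq_of_homotopy _ _
      ((copow ι).mapHomotopy (HomotopyCategory.homotopyOfEq _ _ h)))

lemma exactAt_map {A C : Type*} [Category* A] [Category* C] [Abelian A] [Abelian C] (F : A ⥤ C) [F.Additive]
    [PreservesFiniteLimits F] [PreservesFiniteColimits F] (K : CochainComplex A ℤ) (p : ℤ) (h : K.ExactAt p) :
    ((F.mapHomologicalComplex _).obj K).ExactAt p :=
  h.map F

lemma isKInjective_pow [HasExactColimitsOfShape (Discrete ι) B] (I : CochainComplex B ℤ) [I.IsKInjective] :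
    CochainComplex.IsKInjective (((pow ι).mapHomologicalComplex _).obj I) :=
  ⟨fun {K} f hK => ⟨HomotopyCategory.homotopyOfEq _ _ (by
    have hz : (HomotopyCategory.quotient B (ComplexShape.up ℤ)).map (((adjC ι).homEquiv K I).symm f) =
        (HomotopyCategory.quotient B (ComplexShape.up ℤ)).map 0 :=
      HomotopyCategory.eq_of_homotopy _ _ (CochainComplex.IsKInjective.homotopyZero _
        fun p => exactAt_map (copow ι) K p (hK p))
    have h := (quotient_eq_iff ι _ _).1 hz
    rw [Equiv.apply_symm_apply, Adjunction.homEquiv_unit, Functor.map_zero, comp_zero] at h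
    exact h)⟩⟩

end Complexes

section Derived

variable [HasDerivedCategory.{w} B]

open DerivedCategory (Q)

/-- `tau` is invertible on all cohomology objects. -/
def Cond (K : DerivedCategory B) : Prop :=
  ∀ p : ℤ, IsIso ((tau ι σ θ).app ((DerivedCategory.homologyFunctor B p).obj K))

variable {ι σ θ}

lemma isIso_tau_of_iso {M N : B} (e : M ≅ N) (h : IsIso ((tau ι σ θ).app M)) : IsIso ((tau ι σ θ).app N) :=
  (NatTrans.isIso_app_iff_of_iso (tau ι σ θ) e).1 h

lemma Cond.of_iso {K L : DerivedCategory B} (e : K ≅ L) (h : Cond ι σ θ K) : Cond ι σ θ L := fun p =>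
  isIso_tau_of_iso ((DerivedCategory.homologyFunctor B p).mapIso e) (h p)

lemma Cond.shift {K : DerivedCategory B} (h : Cond ι σ θ K) (n : ℤ) : Cond ι σ θ (K⟦n⟧) := fun p =>
  isIso_tau_of_iso (((DerivedCategory.homologyFunctor B 0).shiftIso n p (n + p) rfl).app K).symm (h (n + p))

variable (ι σ θ)

theorem quasiIso_tauC [HasExactLimitsOfShape (Discrete ι) B] (I : CochainComplex B ℤ)
    (h : Cond ι σ θ (Q.obj I)) : QuasiIso ((tauC ι σ θ).app I) := by
  refine ⟨fun p => ?_⟩
  rw [quasiIsoAt_iff_isIso_homologyMap]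
  haveI := isIso_tau_of_iso ((DerivedCategory.homologyFunctorFactors B p).app I) (h p)
  have e : IsIso (ShortComplex.homologyMap ((I.sc p).mapNatTrans (tau ι σ θ))) := by
    have h1 := NatTrans.app_homology (tau ι σ θ) (I.sc p)
    haveI : IsIso ((tau ι σ θ).app (I.sc p).homology) := ‹_›
    rw [h1, isIso_comp_left_iff, isIso_comp_right_iff] at this
    exact this
  exact e

theorem bijective_deltaC [IsGrothendieckAbelian.{v} B] [HasExactLimitsOfShape (Discrete ι) B]
    [HasExactColimitsOfShape (Discrete ι) B] (K : DerivedCategory B) (hK : Cond ι σ θ K)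
    (P : CochainComplex B ℤ) :
    Function.Bijective fun g : Q.obj (((copow ι).mapHomologicalComplex _).obj P) ⟶ K =>
      Q.map ((deltaC ι σ θ).app P) ≫ g := by
  obtain ⟨I, hI, ⟨e⟩⟩ := KInjLib.exists_iso_kInjective K
  suffices H : Function.Bijective fun g : Q.obj (((copow ι).mapHomologicalComplex _).obj P) ⟶ Q.obj I =>
      Q.map ((deltaC ι σ θ).app P) ≫ g by
    refine ⟨fun a b hab => (cancel_mono e.hom).1 (H.1 ?_), fun h => ?_⟩
    · simp only [← Category.assoc]
      exact congrArg (· ≫ e.hom) hab
    · obtain ⟨g, hg⟩ := H.2 (h ≫ e.hom)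
      refine ⟨g ≫ e.inv, ?_⟩
      dsimp only at hg ⊢
      rw [← Category.assoc, hg, Category.assoc, e.hom_inv_id, Category.comp_id]
  haveI := quasiIso_tauC ι σ θ I (hK.of_iso e)
  haveI := isKInjective_pow ι I
  let q := HomotopyCategory.quotient B (ComplexShape.up ℤ)
  haveI : IsIso (Q.map ((tauC ι σ θ).app I)) := inferInstance
  obtain ⟨s, hs⟩ := KInjLib.exists_map_eq (CategoryTheory.inv (Q.map ((tauC ι σ θ).app I)))
  have key : ∀ {A J : CochainComplex B ℤ} [J.IsKInjective] (a b : A ⟶ J), Q.map a = Q.map b ↔ q.map a = q.map b :=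
    fun a b => (KInjLib.map_eq_iff a b).trans
      ⟨fun ⟨H⟩ => HomotopyCategory.eq_of_homotopy _ _ H, fun h => ⟨HomotopyCategory.homotopyOfEq _ _ h⟩⟩
  refine ⟨fun a b hab => ?_, fun h => ?_⟩
  · obtain ⟨α, rfl⟩ := KInjLib.exists_map_eq a
    obtain ⟨β, rfl⟩ := KInjLib.exists_map_eq b
    simp only [← Functor.map_comp] at hab
    rw [key, quotient_eq_iff, homEquiv_deltaC, homEquiv_deltaC, ← key, Functor.map_comp, Functor.map_comp,
      cancel_mono] at hab
    rw [key, quotient_eq_iff, ← key]
    exact hab
  · obtain ⟨φ, rfl⟩ := KInjLib.exists_map_eq h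
    refine ⟨Q.map (((adjC ι).homEquiv P I).symm ((adjC ι).homEquiv P I φ ≫ s)), ?_⟩
    simp only [← Functor.map_comp]
    rw [key, quotient_eq_iff, homEquiv_deltaC, Equiv.apply_symm_apply, ← key, Functor.map_comp,
      Functor.map_comp, hs, Category.assoc, IsIso.inv_hom_id, Category.comp_id]

theorem bijective_delta [IsGrothendieckAbelian.{v} B] [HasExactLimitsOfShape (Discrete ι) B]
    [HasExactColimitsOfShape (Discrete ι) B] (K : DerivedCategory B) (hK : Cond ι σ θ K) (P : B) :
    Function.Bijective fun g : (DerivedCategory.singleFunctor B 0).obj ((copow ι).obj P) ⟶ K =>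
      (DerivedCategory.singleFunctor B 0).map ((delta ι σ θ).app P) ≫ g := by
  let e := (HomologicalComplex.singleMapHomologicalComplex (copow (B := B) ι) (ComplexShape.up ℤ) 0).app P
  let c : Q.obj (((copow ι).mapHomologicalComplex _).obj ((HomologicalComplex.single B _ 0).obj P)) ≅
      (DerivedCategory.singleFunctor B 0).obj ((copow ι).obj P) := Q.mapIso e
  have hcomm : c.hom ≫ (DerivedCategory.singleFunctor B 0).map ((delta ι σ θ).app P) =
      Q.map ((deltaC ι σ θ).app ((HomologicalComplex.single B _ 0).obj P)) ≫ c.hom := by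
    show Q.map e.hom ≫ Q.map ((HomologicalComplex.single B _ 0).map ((delta ι σ θ).app P)) = _ ≫ Q.map e.hom
    rw [← Functor.map_comp, ← Functor.map_comp]
    congr 1
    refine HomologicalComplex.to_single_hom_ext ?_
    simp [e, HomologicalComplex.single_map_f_self]
    exact (delta ι σ θ).naturality _
  have h := bijective_deltaC ι σ θ K hK ((HomologicalComplex.single B _ 0).obj P)
  refine ⟨fun a b hab => ?_, fun g => ?_⟩
  · refine (cancel_epi c.hom).1 (h.1 ?_)
    simp only [← Category.assoc, ← hcomm]
    simp only [Category.assoc]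
    exact congrArg (c.hom ≫ ·) hab
  · obtain ⟨x, hx⟩ := h.2 (c.hom ≫ g)
    refine ⟨c.inv ≫ x, (cancel_epi c.hom).1 ?_⟩
    simp only [← Category.assoc, hcomm]
    simpa using hx

/-- For a projective object, maps out of it in the derived category are computed by cohomology. -/
theorem bijective_homology_map (P : B) [Projective P] (K : DerivedCategory B) :
    Function.Bijective fun g : (DerivedCategory.singleFunctor B 0).obj P ⟶ K =>
      (DerivedCategory.singleFunctorCompHomologyFunctorIso B 0).inv.app P ≫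
        (DerivedCategory.homologyFunctor B 0).map g := by
  obtain ⟨K, ⟨e⟩⟩ : ∃ L, Nonempty (Q.obj L ≅ K) := ⟨_, ⟨Q.objObjPreimageIso K⟩⟩
  let S := (HomologicalComplex.single B (ComplexShape.up ℤ) 0).obj P
  haveI : CochainComplex.IsKProjective S := CochainComplex.isKProjective_of_projective S 0
  suffices H : Function.Bijective fun g : Q.obj S ⟶ Q.obj K => (DerivedCategory.homologyFunctor B 0).map g by
    refine ⟨fun a b hab => (cancel_mono e.inv).1 (H.1 ?_), fun x => ?_⟩
    · simp only [Functor.map_comp]
      exact congrArg (· ≫ _) ((cancel_epi _).1 hab)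
    · obtain ⟨g, hg⟩ := H.2 ((DerivedCategory.singleFunctorCompHomologyFunctorIso B 0).hom.app P ≫ x ≫
        (DerivedCategory.homologyFunctor B 0).map e.inv)
      refine ⟨g ≫ e.hom, ?_⟩
      simp only [Functor.map_comp]
      refine (congrArg (fun z => _ ≫ z ≫ _) hg).trans ?_
      simp [← Functor.map_comp]
  have hrep : ∀ g : Q.obj S ⟶ Q.obj K, ∃ φ : S ⟶ K, Q.map φ = g := fun g => by
    obtain ⟨f, hf⟩ := (CochainComplex.IsKProjective.Qh_map_bijective S
      ((HomotopyCategory.quotient B _).obj K)).2 ((DerivedCategory.quotientCompQhIso B).hom.app S ≫ g ≫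
        (DerivedCategory.quotientCompQhIso B).inv.app K)
    obtain ⟨φ, rfl⟩ := (HomotopyCategory.quotient B (ComplexShape.up ℤ)).map_surjective f
    refine ⟨φ, ?_⟩
    rw [← cancel_epi ((DerivedCategory.quotientCompQhIso B).hom.app S),
      ← (DerivedCategory.quotientCompQhIso B).hom.naturality φ]
    refine (congrArg (· ≫ _) (show ((HomotopyCategory.quotient B _ ⋙ DerivedCategory.Qh).map φ) = _ from hf)).trans ?_
    simp
  suffices H : Function.Surjective (fun φ : S ⟶ K => HomologicalComplex.homologyMap φ 0) ∧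
      ∀ φ : S ⟶ K, HomologicalComplex.homologyMap φ 0 = 0 → Nonempty (Homotopy φ 0) by
    let F := DerivedCategory.homologyFunctorFactors B 0
    have hnat : ∀ φ : S ⟶ K, (DerivedCategory.homologyFunctor B 0).map (Q.map φ) =
        F.hom.app S ≫ HomologicalComplex.homologyMap φ 0 ≫ F.inv.app K := fun φ => by
      rw [← Category.assoc, ← Iso.app_inv, Iso.eq_comp_inv]
      exact F.hom.naturality φ
    refine ⟨(injective_iff_map_eq_zero ((DerivedCategory.homologyFunctor B 0).mapAddHom (X := Q.obj S)
      (Y := Q.obj K))).2 fun g hg => ?_, fun x => ?_⟩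
    · obtain ⟨φ, rfl⟩ := hrep g
      obtain ⟨Hφ⟩ := H.2 φ (by
        have h0 : (DerivedCategory.homologyFunctor B 0).map (Q.map φ) = 0 := hg
        rw [hnat] at h0
        simpa using h0)
      exact (HomologicalComplexUpToQuasiIso.Q_map_eq_of_homotopy Hφ).trans (DerivedCategory.Q.map_zero S K)
    · obtain ⟨φ, hφ⟩ := H.1 (F.inv.app S ≫ x ≫ F.hom.app K)
      exact ⟨Q.map φ, by simp [hnat, show HomologicalComplex.homologyMap φ 0 = _ from hφ]⟩
  constructor
  · intro x
    let c : P ⟶ K.cycles 0 := Projective.factorThru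
      ((HomologicalComplex.singleObjCyclesSelfIso (ComplexShape.up ℤ) 0 P).inv ≫ S.homologyπ 0 ≫ x)
      (K.homologyπ 0)
    let φ : S ⟶ K := HomologicalComplex.mkHomFromSingle (c ≫ K.iCycles 0) fun j _ => by simp
    refine ⟨φ, ?_⟩
    rw [← cancel_epi (S.homologyπ 0), HomologicalComplex.homologyπ_naturality,
      ← cancel_epi (HomologicalComplex.singleObjCyclesSelfIso (ComplexShape.up ℤ) 0 P).inv, ← Category.assoc]
    refine (congrArg (· ≫ K.homologyπ 0) (show _ = c from ?_)).trans (Projective.factorThru_comp _ _)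
    rw [← cancel_mono (K.iCycles 0), Category.assoc, HomologicalComplex.cyclesMap_i]
    simp [φ, S, HomologicalComplex.singleObjCyclesSelfIso_inv_iCycles_assoc]
  · intro φ hφ
    let c : P ⟶ K.cycles 0 :=
      (HomologicalComplex.singleObjCyclesSelfIso (ComplexShape.up ℤ) 0 P).inv ≫ HomologicalComplex.cyclesMap φ 0
    have hc : c ≫ K.homologyπ 0 = 0 := by
      rw [Category.assoc, ← HomologicalComplex.homologyπ_naturality, hφ, comp_zero, comp_zero]
    have hex : (ShortComplex.mk (K.toCycles (-1) 0) (K.homologyπ 0) (K.toCycles_comp_homologyπ _ _)).Exact :=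
      ShortComplex.exact_of_g_is_cokernel _ (K.homologyIsCokernel (-1) 0 (by simp))
    let b : P ⟶ K.X (-1) := hex.liftFromProjective c hc
    have hb : b ≫ K.d (-1) 0 = (HomologicalComplex.singleObjXSelf (ComplexShape.up ℤ) 0 P).inv ≫ φ.f 0 := by
      rw [← K.toCycles_i (-1) 0, ← Category.assoc]
      refine (congrArg (· ≫ K.iCycles 0) (hex.liftFromProjective_comp c hc)).trans ?_
      simp only [c, Category.assoc, HomologicalComplex.cyclesMap_i]
      rw [← Category.assoc]
      exact congrArg (· ≫ φ.f 0) (HomologicalComplex.singleObjCyclesSelfIso_inv_iCycles _ _ _)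
    refine ⟨⟨fun i j => if h : i = 0 ∧ j = -1 then
        eqToHom (by rw [h.1]) ≫ (HomologicalComplex.singleObjXSelf (ComplexShape.up ℤ) 0 P).hom ≫ b ≫
          eqToHom (by rw [h.2]) else 0, fun i j hij => ?_, fun i => ?_⟩⟩
    · rw [dif_neg]
      rintro ⟨rfl, rfl⟩
      exact hij (by simp)
    · by_cases hi : i = 0
      · subst hi
        rw [dNext_eq _ (show (ComplexShape.up ℤ).Rel 0 1 by simp),
          prevD_eq _ (show (ComplexShape.up ℤ).Rel (-1) 0 by simp)]
        simp [S, hb]
      · exact (HomologicalComplex.isZero_single_obj_X _ _ _ _ hi).eq_of_src _ _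

theorem bijective_tau_of_bijective_delta (P : B) [Projective ((copow ι).obj P)] (K : DerivedCategory B)
    (h : Function.Bijective fun g : (DerivedCategory.singleFunctor B 0).obj ((copow ι).obj P) ⟶ K =>
      (DerivedCategory.singleFunctor B 0).map ((delta ι σ θ).app P) ≫ g) :
    Function.Bijective fun g : P ⟶ (pow ι).obj ((DerivedCategory.homologyFunctor B 0).obj K) =>
      g ≫ (tau ι σ θ).app ((DerivedCategory.homologyFunctor B 0).obj K) := by
  let H := (DerivedCategory.homologyFunctor B 0).obj K
  let I0 := DerivedCategory.singleFunctorCompHomologyFunctorIso B 0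
  let E := Equiv.ofBijective _ (bijective_homology_map ((copow ι).obj P) K)
  have h1 : Function.Bijective fun y : (copow ι).obj P ⟶ H => (delta ι σ θ).app P ≫ y := by
    have : (fun y : (copow ι).obj P ⟶ H => (delta ι σ θ).app P ≫ y) =
        (E : _ → _) ∘ (fun g => (DerivedCategory.singleFunctor B 0).map ((delta ι σ θ).app P) ≫ g) ∘ E.symm := by
      funext y
      obtain ⟨g, rfl⟩ := E.surjective y
      simp only [Function.comp_apply, Equiv.symm_apply_apply]
      show _ ≫ I0.inv.app _ ≫ _ = I0.inv.app _ ≫ _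
      rw [Functor.map_comp, ← Category.assoc, ← Category.assoc]
      exact congrArg (· ≫ _) (I0.inv.naturality ((delta ι σ θ).app P))
    rw [this]
    exact E.bijective.comp (h.comp E.symm.bijective)
  have : (fun g : P ⟶ (pow ι).obj H => g ≫ (tau ι σ θ).app H) = (powAdj ι).homEquiv P H ∘
      (fun y => (delta ι σ θ).app P ≫ y) ∘ ((powAdj ι).homEquiv P H).symm := by
    funext g
    simp only [Function.comp_apply, homEquiv_delta, Equiv.apply_symm_apply]
  show Function.Bijective fun g : P ⟶ (pow ι).obj H => g ≫ (tau ι σ θ).app H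
  rw [this]
  exact ((powAdj ι).homEquiv P H).bijective.comp (h1.comp ((powAdj ι).homEquiv P H).symm.bijective)

/-- Orthogonality to a cokernel. -/
theorem orthogonal_iff {S : ShortComplex B} (hS : S.ShortExact) (K : DerivedCategory B) :
    (∀ n : ℤ, Subsingleton ((DerivedCategory.singleFunctor B 0).obj S.X₃ ⟶ K⟦n⟧)) ↔
      ∀ n : ℤ, Function.Bijective fun g : (DerivedCategory.singleFunctor B 0).obj S.X₂ ⟶ K⟦n⟧ =>
        (DerivedCategory.singleFunctor B 0).map S.f ≫ g := by
  let T := hS.singleTriangle
  have hT : T ∈ distTriang _ := hS.singleTriangle_distinguished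
  constructor
  · intro h n
    haveI := h n
    refine ⟨(injective_iff_map_eq_zero (Preadditive.leftComp (K⟦n⟧) T.mor₁)).2 fun g hg => ?_, fun g => ?_⟩
    · obtain ⟨f, hf⟩ := T.yoneda_exact₂ hT g hg
      rw [hf, (h n).elim f 0, comp_zero]
    · have h0 : T.invRotate.mor₁ ≫ g = 0 := by
        refine (shiftFunctor (DerivedCategory B) (1 : ℤ)).map_injective ?_
        rw [Functor.map_zero, ← cancel_epi ((shiftFunctorCompIsoId (DerivedCategory B) (-1 : ℤ) 1 (by simp)).app
            T.obj₃).inv, ← cancel_mono ((shiftFunctorAdd' (DerivedCategory B) n 1 (n + 1) rfl).app K).inv]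
        exact (h (n + 1)).elim _ _
      obtain ⟨f, hf⟩ := T.invRotate.yoneda_exact₂ (inv_rot_of_distTriang _ hT) g h0
      exact ⟨f, hf.symm⟩
  · intro h n
    refine ⟨fun a b => sub_eq_zero.1 ?_⟩
    let f : T.obj₃ ⟶ K⟦n⟧ := a - b
    have hq : T.mor₂ ≫ f = 0 := (h n).1 (by
      show T.mor₁ ≫ T.mor₂ ≫ f = T.mor₁ ≫ 0
      rw [← Category.assoc, comp_distTriang_mor_zero₁₂ T hT, zero_comp, comp_zero])
    obtain ⟨g, hg⟩ := T.yoneda_exact₃ hT f hq
    let e := (shiftFunctorAdd' (DerivedCategory B) (n - 1) 1 n (by simp)).app K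
    obtain ⟨g₁, hg₁⟩ := (shiftFunctor (DerivedCategory B) (1 : ℤ)).map_surjective (g ≫ e.hom)
    obtain ⟨g₂, hg₂⟩ := (h (n - 1)).2 g₁
    show f = 0
    rw [hg, ← cancel_mono e.hom, zero_comp, Category.assoc, ← hg₁, ← show T.mor₁ ≫ g₂ = g₁ from hg₂,
      Functor.map_comp, ← Category.assoc, comp_distTriang_mor_zero₃₁ T hT, zero_comp]

end Derived

end Groth.Agent.ProEtDC1
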