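import Groth.Agent.Lib.ProEtDC1.Complete

/-!
Derived complete sheaves with finitely presented locally constant reduction are quotients of finite sums of
the completed constant sheaf on a weakly contractible affine scheme.
-/

universe u

open CategoryTheory Limits AlgebraicGeometry Opposite

namespace Groth.Agent.ProEtDC1

set_option backward.isDefEq.respectTransparency false
set_option backward.isDefEq.respectTransparency.types false
set_option linter.style.haveILetI false
set_option linter.unusedSectionVars false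
set_option maxHeartbeats 800000

attribute [local instance] HasDerivedCategory.standard

open EtModW (ModP)

variable {Λ : Type (u + 1)} [CommRing Λ] {X : Scheme.{u}}

lemma isWC_top [IsAffine X] (hX : EtPBC.IsWContractible ↥(Γ(X, ⊤))) : ProEtS.IsWC (ProEtS.topP X) :=
  haveI : IsAffine (ProEtS.topP X).left := ‹IsAffine X›
  (ProEtWC.isWC_iff_hasSections _).2 ((ProEtWC.isWContractible_iff_hasSections X).1 hX)

lemma eq_zero_of_cover {G : ModP Λ X} {Z : X.ProEt} {R : Sieve Z} (hR : R ∈ Scheme.ProEt.topology X Z)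
    (x : G.obj.obj (op Z)) (h : ∀ ⦃Y : X.ProEt⦄ (f : Y ⟶ Z), R.arrows f → G.obj.map f.op x = 0) : x = 0 :=
  ((isSheaf_iff_isSheaf_of_type _ _).1
    ((Presheaf.isSheaf_iff_isSheaf_forget _ G.obj (forget (ModuleCat.{u + 1} Λ))).1 G.property) _ hR).isSeparatedFor.ext
      fun Y f hf => (h f hf).trans (map_zero (G.obj.map f.op).hom).symm

/-- A locally constant sheaf of finite presentation is generated by finitely many global sections. -/
theorem exists_generators [IsAffine X] (hX : EtPBC.IsWContractible ↥(Γ(X, ⊤))) {Q : ModP Λ X}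
    (hQ : EtModW.IsFPLocConstP Λ Q) :
    ∃ (t : ℕ) (s : Fin t → Q.obj.obj (op (ProEtS.topP X))),
      ∀ ⦃G : ModP Λ X⦄ (ρ : Q ⟶ G), (∀ j, ρ.hom.app _ (s j) = 0) → ρ = 0 := by
  classical
  haveI : IsAffine (ProEtS.topP X).left := ‹IsAffine X›
  obtain ⟨ι, U, hcov, hloc⟩ := hQ
  obtain ⟨n, O, -, hd, hu, hO⟩ := (ProEtWC.isWC_iff_refinedByClopen _).1 (isWC_top hX) _ hcov
  let V : ULift.{u} (Fin n) → X.ProEt := fun k => ProEtWC.overObj (ProEtS.topP X) (O k.down).ι
  let g : ∀ k, V k ⟶ ProEtS.topP X := fun k => ProEtWC.overHom (ProEtS.topP X) (O k.down).ι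
  haveI : ∀ k, IsOpenImmersion (g k).left := fun k => inferInstanceAs (IsOpenImmersion (O k.down).ι)
  have hd' : Pairwise fun i j => Disjoint (Set.range (g i).left) (Set.range (g j).left) := by
    intro i j hij
    change Disjoint (Set.range (O i.down).ι) (Set.range (O j.down).ι)
    rw [Scheme.Opens.range_ι, Scheme.Opens.range_ι]
    exact hd fun h => hij (ULift.ext _ _ h)
  have hs' : ∀ x : (ProEtS.topP X).left, ∃ i, x ∈ Set.range (g i).left := fun x => by
    obtain ⟨k, hk⟩ := Set.mem_iUnion.1 (hu.ge (Set.mem_univ x))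
    exact ⟨⟨k⟩, (Scheme.Opens.range_ι _).ge hk⟩
  have hfac : ∀ k : ULift.{u} (Fin n), ∃ (i : ι), Nonempty (V k ⟶ U i) := fun k => by
    obtain ⟨Y, p, q, ⟨i⟩, -⟩ := hO k.down
    exact ⟨i, ⟨p⟩⟩
  choose i hi using hfac
  let a : ∀ k, V k ⟶ U (i k) := fun k => (hi k).some
  choose M hM₁ hM₂ hM₃ he using hloc
  let e : ∀ i, Q.over (U i) ≅ ProEtDC.constOverP Λ (U i) (M i) := fun i => (he i).some
  choose m γ hγ using fun k => Module.Finite.exists_fin (R := Λ) (M := M (i k))
  let un : ∀ (i : ι) (Ov : Over (U i)), M i →ₗ[Λ] (ProEtDC.constOverP Λ (U i) (M i)).obj.obj (op Ov) := fun i Ov =>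
    ((toSheafify ((Scheme.ProEt.topology X).over (U i))
      ((Functor.const (Over (U i))ᵒᵖ).obj (ModuleCat.of Λ (M i)))).app (op Ov)).hom
  let τ : ∀ k, Fin (m k) → Q.obj.obj (op (V k)) := fun k j =>
    (e (i k)).inv.hom.app (op (Over.mk (a k))) (un (i k) _ (γ k j))
  let S := sheafCompose (Scheme.ProEt.topology X) (forget (ModuleCat.{u + 1} Λ))
  have hglue : ∀ kj : Σ k, Fin (m k), ∃ σ : Q.obj.obj (op (ProEtS.topP X)), Q.obj.map (g kj.1).op σ = τ kj.1 kj.2 :=
    fun kj => by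
      obtain ⟨σ, hσ⟩ := (ProEtWC.bijective_restrict V g hd' hs' (S.obj Q)).2
        fun k => if h : k = kj.1 then h ▸ τ kj.1 kj.2 else (0 : Q.obj.obj (op (V k)))
      exact ⟨σ, (congrFun hσ kj.1).trans (dif_pos rfl)⟩
  choose σ hσ using hglue
  let E := (Fintype.equivFin (Σ k : ULift.{u} (Fin n), Fin (m k)))
  refine ⟨_, fun j => σ (E.symm j), fun G ρ hρ => ?_⟩
  have hρ' : ∀ kj, ρ.hom.app _ (σ kj) = 0 := fun kj => by simpa using hρ (E kj)
  ext Z x
  obtain ⟨Z⟩ := Z
  show ρ.hom.app (op Z) x = 0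
  refine eq_zero_of_cover ((Scheme.ProEt.topology X).pullback_stable
    (topTerminal.from Z) (ProEtWC.openImmersions_cover_mem V g hs')) _ fun Y f hf => ?_
  obtain ⟨Y', h, _, ⟨k⟩, -⟩ := hf
  let O₁ : Over (U (i k)) := Over.mk (h ≫ a k)
  let z : (ProEtDC.constOverP Λ (U (i k)) (M (i k))).obj.obj (op O₁) :=
    (e (i k)).hom.hom.app (op O₁) (Q.obj.map f.op x)
  have hS := Presheaf.imageSieve_mem ((Scheme.ProEt.topology X).over (U (i k)))
    (toSheafify ((Scheme.ProEt.topology X).over (U (i k)))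
      ((Functor.const (Over (U (i k)))ᵒᵖ).obj (ModuleCat.of Λ (M (i k))))) (U := op O₁) z
  rw [GrothendieckTopology.mem_over_iff] at hS
  rw [← NatTrans.naturality_apply ρ.hom]
  refine eq_zero_of_cover hS _ fun Y₂ f₂ hf₂ => ?_
  rw [Sieve.overEquiv_iff] at hf₂
  obtain ⟨w, hw⟩ := hf₂
  let O₂ : Over (U (i k)) := Over.mk (f₂ ≫ h ≫ a k)
  let q : O₂ ⟶ O₁ := Over.homMk f₂
  let p : O₂ ⟶ Over.mk (a k) := Over.homMk (f₂ ≫ h) (Category.assoc _ _ _)
  have hx : Q.obj.map f₂.op (Q.obj.map f.op x) = (e (i k)).inv.hom.app (op O₂) (un (i k) O₂ w) := by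
    have h1 : (e (i k)).inv.hom.app (op O₁) z = Q.obj.map f.op x :=
      congr($((e (i k)).hom_inv_id).hom.app (op O₁) (Q.obj.map f.op x))
    have h2 := NatTrans.naturality_apply (e (i k)).inv.hom q.op z
    refine Eq.trans ?_ (h2.symm.trans (congrArg _ hw.symm))
    exact congrArg (Q.obj.map f₂.op) h1.symm
  obtain ⟨c, rfl⟩ : ∃ c : Fin (m k) → Λ, ∑ j, c j • γ k j = w := by
    have : w ∈ Submodule.span Λ (Set.range (γ k)) := (hγ k).ge Submodule.mem_top
    exact (Submodule.mem_span_range_iff_exists_fun _).1 this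
  refine (NatTrans.naturality_apply ρ.hom f₂.op _).symm.trans ?_
  rw [hx, map_sum, map_sum, map_sum]
  refine Finset.sum_eq_zero fun j _ => ?_
  rw [map_smul, map_smul, map_smul]
  have hj : (e (i k)).inv.hom.app (op O₂) (un (i k) O₂ (γ k j)) = Q.obj.map (f₂ ≫ h).op (τ k j) := by
    refine Eq.trans ?_ (NatTrans.naturality_apply (e (i k)).inv.hom p.op (un (i k) _ (γ k j)))
    refine congrArg ((e (i k)).inv.hom.app (op O₂)) ?_
    exact NatTrans.naturality_apply (toSheafify ((Scheme.ProEt.topology X).over (U (i k)))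
      ((Functor.const (Over (U (i k)))ᵒᵖ).obj (ModuleCat.of Λ (M (i k))))) p.op (γ k j)
  refine smul_eq_zero_of_right (c j) ?_
  refine (congrArg (ρ.hom.app (op Y₂)) hj).trans ?_
  rw [← hσ ⟨k, j⟩, NatTrans.naturality_apply ρ.hom, NatTrans.naturality_apply ρ.hom, hρ', map_zero, map_zero]

lemma secDC_of_iso {I : Ideal Λ} {F G : ModP Λ X} (e : F ≅ G) (h : SecDC I F) : SecDC I G := fun f hf =>
  (isIso_tau_iff f G).1 (isIso_tau_of_iso e ((isIso_tau_iff f F).2 (h f hf)))

theorem exists_epi [IsAffine X] (hX : EtPBC.IsWContractible ↥(Γ(X, ⊤))) [IsNoetherianRing Λ] {r : ℕ}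
    (a : Fin r → Λ) (F : ModP Λ X) (hF : SecDC (Ideal.span (Set.range a)) F)
    (hq : EtModW.IsFPLocConstP Λ (cokernel (ProEtDC.gensMap Λ a F))) :
    ∃ (t : ℕ) (φ : (⨁ fun _ : Fin t => ProEtDC.lambdaHat Λ X (Ideal.span (Set.range a))) ⟶ F), Epi φ := by
  obtain ⟨t, s, hs⟩ := exists_generators hX hq
  choose s' hs' using fun j => EtModEps19.wc_surjective (isWC_top hX) (cokernel.π (ProEtDC.gensMap Λ a F)) (s j)
  let γ : Fin t → (cOne Λ X ⟶ F) := fun j => (cstAdj.homEquiv (ModuleCat.of Λ Λ) F).symm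
    (ModuleCat.ofHom (LinearMap.toSpanSingleton Λ _ (s' j)))
  have hγ : ∀ j, ∃ y, (γ j).hom.app (op (ProEtS.topP X)) y = s' j := fun j => by
    refine ⟨(cstAdj.unit.app (ModuleCat.of Λ Λ)).hom (1 : Λ), ?_⟩
    have h := congrArg (fun ψ => ψ.hom (1 : Λ)) ((cstAdj.homEquiv (ModuleCat.of Λ Λ) F).apply_symm_apply
      (ModuleCat.ofHom (LinearMap.toSpanSingleton Λ _ (s' j))))
    rw [Adjunction.homEquiv_unit] at h
    exact h.trans (one_smul Λ _)
  choose φ hφ using fun j => exists_desc a hF (γ j)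
  let Φ := biproduct.desc φ
  refine ⟨t, Φ, ?_⟩
  have hsrc : SecDC (Ideal.span (Set.range a))
      (⨁ fun _ : Fin t => ProEtDC.lambdaHat Λ X (Ideal.span (Set.range a))) :=
    secDC_of_iso (biproduct.isoProduct _).symm (secDC_limit _ fun _ => secDC_lambdaHat _)
  let C := cokernel Φ
  let π' := cokernel.π (ProEtDC.gensMap Λ a C)
  have w : ProEtDC.gensMap Λ a F ≫ cokernel.π Φ ≫ π' = 0 := by
    refine biproduct.hom_ext' _ _ fun j => ?_
    rw [biproduct.ι_desc_assoc, comp_zero, ← Category.assoc,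
      show ProEtDC.smulHom Λ F (a j) ≫ cokernel.π Φ = cokernel.π Φ ≫ ProEtDC.smulHom Λ C (a j) from
        ((theta (a j)).naturality (cokernel.π Φ)).symm,
      ← biproduct.ι_desc (fun k => ProEtDC.smulHom Λ C (a k)) j, Category.assoc, Category.assoc,
      cokernel.condition, comp_zero, comp_zero]
  let ρ := cokernel.desc _ _ w
  have hρ : cokernel.π _ ≫ ρ = cokernel.π Φ ≫ π' := cokernel.π_desc _ _ _
  have hρ0 : ρ = 0 := hs ρ fun j => by
    obtain ⟨y, hy⟩ := hγ j
    rw [← hs' j, ← hy]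
    refine (congr($(hρ).hom.app (op (ProEtS.topP X)) ((γ j).hom.app _ y))).trans ?_
    have h0 : γ j ≫ cokernel.π Φ = 0 := by
      rw [← hφ j, ← biproduct.ι_desc φ j, Category.assoc, Category.assoc, cokernel.condition, comp_zero, comp_zero]
    have h1 : (cokernel.π Φ).hom.app (op (ProEtS.topP X)) ((γ j).hom.app _ y) = 0 :=
      congr($(h0).hom.app (op (ProEtS.topP X)) y)
    show π'.hom.app _ ((cokernel.π Φ).hom.app (op (ProEtS.topP X)) _) = 0
    rw [h1, map_zero]
  have hC : IsZero C := isZero_of_epi_gensMap a C (secDC_cokernel Φ hsrc hF) (by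
    refine Preadditive.epi_of_isZero_cokernel _ ?_
    rw [IsZero.iff_id_eq_zero]
    refine (cancel_epi (cokernel.π Φ ≫ π')).1 ?_
    rw [Category.comp_id, comp_zero, ← hρ, hρ0, comp_zero])
  exact Preadditive.epi_of_isZero_cokernel Φ hC

end Groth.Agent.ProEtDC1
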