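import Groth.Agent.Lib.ProEtDC1.Sheaves
import Groth.Agent.Lib.EtModEps19.LimEpi

/-!
Permanence properties of derived completeness of sheaves.
-/

universe u

open CategoryTheory Limits AlgebraicGeometry Opposite

namespace Groth.Agent.ProEtDC1

set_option backward.isDefEq.respectTransparency false
set_option backward.isDefEq.respectTransparency.types false
set_option linter.style.haveILetI false
set_option linter.unusedSectionVars false

open EtModW (ModP)

section Module

variable {Λ : Type (u + 1)} [CommRing Λ] {A B C : Type*} [AddCommGroup A] [Module Λ A] [AddCommGroup B] [Module Λ B]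
  [AddCommGroup C] [Module Λ C] (f : Λ)

lemma shiftSub_map (φ : A →ₗ[Λ] B) (s : I0.{u} → A) : shiftSub f (φ ∘ s) = φ ∘ shiftSub f s := by
  funext i
  simp [shiftSub]

lemma shiftSub_sub (s t : I0.{u} → A) : shiftSub f (s - t) = shiftSub f s - shiftSub f t := by
  funext i
  simp [shiftSub, smul_sub]
  abel

lemma shiftSub_injective_iff :
    Function.Injective (shiftSub f : (I0.{u} → A) → _) ↔ ∀ s : I0.{u} → A, shiftSub f s = 0 → s = 0 :=
  ⟨fun h s hs => h (hs.trans (funext fun i => by simp [shiftSub])),
    fun h s t e => sub_eq_zero.1 (h _ (by rw [shiftSub_sub, e, sub_self]))⟩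

theorem bijective_of_exact_left (i : A →ₗ[Λ] B) (p : B →ₗ[Λ] C) (hi : Function.Injective i)
    (hex : Function.Exact i p) (hB : Function.Bijective (shiftSub f : (I0.{u} → B) → _))
    (hC : Function.Injective (shiftSub f : (I0.{u} → C) → _)) :
    Function.Bijective (shiftSub f : (I0.{u} → A) → _) := by
  refine ⟨fun s t e => ?_, fun a => ?_⟩
  · refine funext fun j => hi (congrFun (hB.1 (a₁ := i ∘ s) (a₂ := i ∘ t) ?_) j)
    rw [shiftSub_map, shiftSub_map, e]
  · obtain ⟨b, hb⟩ := hB.2 (i ∘ a)
    have hb0 : p ∘ b = 0 := (shiftSub_injective_iff f).1 hC _ (by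
      rw [shiftSub_map, hb]; exact funext fun j => hex.apply_apply_eq_zero _)
    choose a' ha' using fun j => (hex (b j)).1 (congrFun hb0 j)
    refine ⟨a', funext fun j => hi ?_⟩
    have h := congrFun (shiftSub_map f i a') j
    rw [show i ∘ a' = b from funext ha', hb] at h
    exact h.symm

theorem bijective_of_exact_right (i : A →ₗ[Λ] B) (p : B →ₗ[Λ] C) (hp : Function.Surjective p)
    (hex : Function.Exact i p) (hA : Function.Surjective (shiftSub f : (I0.{u} → A) → _))
    (hB : Function.Bijective (shiftSub f : (I0.{u} → B) → _)) :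
    Function.Bijective (shiftSub f : (I0.{u} → C) → _) := by
  refine ⟨(shiftSub_injective_iff f).2 fun c hc => ?_, fun c => ?_⟩
  · choose b hb using fun j => hp (c j)
    have h0 : ∀ j, p (shiftSub f b j) = 0 := fun j => by
      have h := congrFun (shiftSub_map f p b) j
      rw [show p ∘ b = c from funext hb, hc] at h
      exact h.symm
    choose a' ha' using fun j => (hex _).1 (h0 j)
    obtain ⟨a, rfl⟩ := hA a'
    have hb' : i ∘ a = b := hB.1 (by rw [shiftSub_map]; exact funext ha')
    funext j
    rw [← hb j, ← congrFun hb' j]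
    exact hex.apply_apply_eq_zero _
  · choose c' hc' using fun j => hp (c j)
    obtain ⟨b, hb⟩ := hB.2 c'
    exact ⟨p ∘ b, by rw [shiftSub_map, hb]; exact funext hc'⟩

theorem bijective_of_exact_mid (i : A →ₗ[Λ] B) (p : B →ₗ[Λ] C) (hp : Function.Surjective p)
    (hex : Function.Exact i p) (hi : Function.Injective i)
    (hA : Function.Bijective (shiftSub f : (I0.{u} → A) → _))
    (hC : Function.Bijective (shiftSub f : (I0.{u} → C) → _)) :
    Function.Bijective (shiftSub f : (I0.{u} → B) → _) := by
  refine ⟨(shiftSub_injective_iff f).2 fun b hb => ?_, fun b => ?_⟩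
  · have h0 : p ∘ b = 0 := (shiftSub_injective_iff f).1 hC.1 _ (by rw [shiftSub_map, hb]; exact funext fun _ => map_zero p)
    choose a ha using fun j => (hex (b j)).1 (congrFun h0 j)
    have ha0 : a = 0 := (shiftSub_injective_iff f).1 hA.1 _ (funext fun j => hi (by
      have h := congrFun (shiftSub_map f i a) j
      rw [show i ∘ a = b from funext ha, hb] at h
      exact h.symm.trans (map_zero i).symm))
    funext j
    rw [← ha j, ha0]
    exact map_zero i
  · obtain ⟨c, hc⟩ := hC.2 (p ∘ b)
    choose b' hb' using fun j => hp (c j)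
    have h0 : ∀ j, p (b j - shiftSub f b' j) = 0 := fun j => by
      have h := congrFun (shiftSub_map f p b') j
      rw [show p ∘ b' = c from funext hb', hc] at h
      rw [map_sub]
      exact sub_eq_zero.2 h
    choose a ha using fun j => (hex _).1 (h0 j)
    obtain ⟨a', rfl⟩ := hA.2 a
    refine ⟨b' + i ∘ a', funext fun j => ?_⟩
    have := ha j
    simp only [shiftSub, map_sub, map_smul, Pi.add_apply, Function.comp_apply, smul_add] at this ⊢
    rw [eq_sub_iff_add_eq] at this
    rw [← this]
    abel

theorem bijective_of_nilpotent (N : ℕ) (h : ∀ x : A, f ^ N • x = 0) :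
    Function.Bijective (shiftSub f : (I0.{u} → A) → _) := by
  have key : ∀ (y : I0.{u} → A) (n : ℕ) (i : ℕ),
      (∑ k ∈ Finset.range n, f ^ k • y ⟨i + k⟩) - f • (∑ k ∈ Finset.range n, f ^ k • y ⟨i + 1 + k⟩) =
        y ⟨i⟩ - f ^ n • y ⟨i + n⟩ := fun y n i => by
    induction n with
    | zero => simp
    | succ n ih =>
      rw [Finset.sum_range_succ, Finset.sum_range_succ, smul_add, add_sub_add_comm, ih, smul_smul, ← pow_succ',
        show i + 1 + n = i + (n + 1) by omega]
      abel
  refine ⟨(shiftSub_injective_iff f).2 fun s hs => funext fun ⟨i⟩ => ?_, fun y => ?_⟩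
  · have hpow : ∀ k : ℕ, s ⟨i⟩ = f ^ k • s ⟨i + k⟩ := fun k => by
      induction k with
      | zero => simp
      | succ k ih =>
        rw [ih, sub_eq_zero.1 (congrFun hs ⟨i + k⟩), smul_smul, ← pow_succ]
        rfl
    rw [hpow N, h]
    rfl
  · refine ⟨fun i => ∑ k ∈ Finset.range N, f ^ k • y ⟨i.down + k⟩, funext fun ⟨i⟩ => ?_⟩
    show _ - f • _ = _
    rw [key, h, sub_zero]

/-- Nakayama for derived complete modules. -/
theorem subsingleton_of_smul_top (s : Finset Λ) :
    ∀ (M : Type (u + 1)) [AddCommGroup M] [Module Λ M],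
      (∀ a ∈ s, Function.Bijective (shiftSub a : (I0.{u} → M) → _)) →
        (∀ x : M, x ∈ Ideal.span (s : Set Λ) • (⊤ : Submodule Λ M)) → Subsingleton M := by
  classical
  induction s using Finset.induction_on with
  | empty =>
    intro M _ _ _ h
    refine ⟨fun x y => ?_⟩
    have hx := h x
    have hy := h y
    rw [Finset.coe_empty, Ideal.span_empty, Submodule.bot_smul, Submodule.mem_bot] at hx hy
    rw [hx, hy]
  | @insert a s _ ih =>
    intro M _ _ hM hsp
    let P := LinearMap.range (LinearMap.lsmul Λ M a)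
    have hex : Function.Exact (LinearMap.lsmul Λ M a) P.mkQ := fun x => by
      rw [Submodule.mkQ_apply, Submodule.Quotient.mk_eq_zero]
      exact LinearMap.mem_range
    haveI := ih (M ⧸ P) (fun b hb => bijective_of_exact_right b (LinearMap.lsmul Λ M a) P.mkQ
      (Submodule.mkQ_surjective P) hex (hM b (Finset.mem_insert_of_mem hb)).2 (hM b (Finset.mem_insert_of_mem hb))) (by
      intro z
      obtain ⟨x, rfl⟩ := P.mkQ_surjective z
      have hx := hsp x
      rw [Finset.coe_insert, Ideal.span_insert, Submodule.sup_smul, Submodule.mem_sup] at hx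
      obtain ⟨y, hy, w, hw, rfl⟩ := hx
      have hy' : P.mkQ y = 0 := by
        refine Submodule.smul_induction_on hy (fun c hc n _ => ?_) (fun u v hu hv => by rw [map_add, hu, hv, add_zero])
        obtain ⟨d, rfl⟩ := Ideal.mem_span_singleton'.1 hc
        rw [Submodule.mkQ_apply, Submodule.Quotient.mk_eq_zero]
        exact ⟨d • n, by simp [smul_smul, mul_comm]⟩
      rw [map_add, hy', zero_add]
      have := Submodule.mem_map_of_mem (f := P.mkQ) hw
      rw [Submodule.map_smul''] at this
      exact Submodule.smul_mono le_rfl le_top this)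
    have hsurj : ∀ x : M, ∃ y, a • y = x := fun x => by
      have := (hex x).1 (Subsingleton.elim _ _)
      exact this
    choose d hd using hsurj
    refine subsingleton_of_forall_eq 0 fun x => ?_
    let t : I0.{u} → M := fun i => Nat.rec (motive := fun _ => M) x (fun _ z => d z) i.down
    have ht : t = 0 := (shiftSub_injective_iff a).1 (hM a (Finset.mem_insert_self a s)).1 t (funext fun i => by
      show t i - a • t (succ0 i) = 0
      rw [sub_eq_zero]
      exact (hd (t i)).symm)
    exact congrFun ht ⟨0⟩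

end Module

variable {Λ : Type (u + 1)} [CommRing Λ] {X : Scheme.{u}} {I : Ideal Λ}

/-- Sections of a morphism. -/
noncomputable abbrev secMap {F G : ModP Λ X} (φ : F ⟶ G) (W : X.ProEt) :
    F.obj.obj (op W) →ₗ[Λ] G.obj.obj (op W) :=
  (φ.hom.app (op W)).hom

lemma secMap_injective {F G : ModP Λ X} (φ : F ⟶ G) [Mono φ] (W : X.ProEt) : Function.Injective (secMap φ W) :=
  haveI : PreservesFiniteLimits (secF (Λ := Λ) W) := comp_preservesFiniteLimits _ _
  haveI : Mono ((secF W).map φ) := inferInstance
  (ModuleCat.mono_iff_injective _).1 ‹_›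

lemma secMap_exact {S : ShortComplex (ModP Λ X)} (hS : S.Exact) {W : X.ProEt} (hW : ProEtS.IsWC W) :
    Function.Exact (secMap S.f W) (secMap S.g W) := fun x =>
  ⟨fun hx => EtModEps19.exact_wc hW hS x hx, fun ⟨y, hy⟩ => by
    rw [← hy]
    exact congr($(S.zero).hom.app (op W) y)⟩

theorem secDC_kernel {F G : ModP Λ X} (φ : F ⟶ G) (hF : SecDC I F) (hG : SecDC I G) : SecDC I (kernel φ) :=
  fun f hf W hW => bijective_of_exact_left f (secMap (kernel.ι φ) W) (secMap φ W) (secMap_injective _ W)
    (secMap_exact (ShortComplex.exact_kernel φ) hW) (hF f hf W hW) (hG f hf W hW).1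

theorem secDC_cokernel {F G : ModP Λ X} (φ : F ⟶ G) (hF : SecDC I F) (hG : SecDC I G) : SecDC I (cokernel φ) :=
  fun f hf W hW => bijective_of_exact_right f (secMap φ W) (secMap (cokernel.π φ) W)
    (EtModEps19.wc_surjective hW (cokernel.π φ)) (secMap_exact (ShortComplex.exact_cokernel φ) hW)
    (hF f hf W hW).2 (hG f hf W hW)

theorem secDC_extension {S : ShortComplex (ModP Λ X)} (hS : S.ShortExact) (h1 : SecDC I S.X₁) (h3 : SecDC I S.X₃) :
    SecDC I S.X₂ := fun f hf W hW =>
  haveI := hS.mono_f
  haveI := hS.epi_g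
  bijective_of_exact_mid f (secMap S.f W) (secMap S.g W) (EtModEps19.wc_surjective hW S.g)
    (secMap_exact hS.exact hW) (secMap_injective _ W) (h1 f hf W hW) (h3 f hf W hW)

theorem secDC_limit {J : Type} [Category J] (D : J ⥤ ModP Λ X) [HasLimit D] (h : ∀ j, SecDC I (D.obj j)) :
    SecDC I (limit D) := by
  intro f hf W hW
  have hl := (Types.isLimit_iff ((secF W ⋙ forget _).mapCone (limit.cone D))).1
    ⟨isLimitOfPreserves (secF W ⋙ forget _) (limit.isLimit D)⟩
  have hext : ∀ x y : (limit D).obj.obj (op W),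
      (∀ j, secMap (limit.π D j) W x = secMap (limit.π D j) W y) → x = y := fun x y e =>
    (hl (fun j => secMap (limit.π D j) W y)
      (fun {j k} a => congr($(limit.w D a).hom.app (op W) y))).unique e fun j => rfl
  refine ⟨fun s t e => funext fun i => hext _ _ fun j => congrFun ((h j f hf W hW).1
    (a₁ := secMap (limit.π D j) W ∘ s) (a₂ := secMap (limit.π D j) W ∘ t) ?_) i, fun y => ?_⟩
  · rw [shiftSub_map, shiftSub_map, e]
  · choose s hs using fun j => (h j f hf W hW).2 (secMap (limit.π D j) W ∘ y)
    have hc : ∀ {j k : J} (a : j ⟶ k), secMap (D.map a) W ∘ s j = s k := fun {j k} a => by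
      refine (h k f hf W hW).1 ?_
      rw [shiftSub_map, hs j, hs k]
      exact funext fun i => congr($(limit.w D a).hom.app (op W) (y i))
    choose x hx _ using fun i => hl (fun j => s j i) fun {j k} a => congrFun (hc a) i
    refine ⟨x, funext fun i => hext _ _ fun j => ?_⟩
    refine (congrFun (shiftSub_map f (secMap (limit.π D j) W) x) i).symm.trans ?_
    refine (congrArg (fun t => shiftSub f t i) (show (secMap (limit.π D j) W : _ → _) ∘ x = s j from
      funext fun i => hx i j)).trans ?_
    exact congrFun (hs j) i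

theorem secDC_const {M : ModuleCat.{u + 1} Λ} (h : ∀ f ∈ I, ∃ N : ℕ, ∀ x : M, f ^ N • x = 0) :
    SecDC I ((constantSheaf (Scheme.ProEt.topology X) (ModuleCat.{u + 1} Λ)).obj M) := by
  intro f hf W _
  obtain ⟨N, hN⟩ := h f hf
  let F := (constantSheaf (Scheme.ProEt.topology X) (ModuleCat.{u + 1} Λ)).obj M
  have h0 : (ProEtDC.smulHom Λ F (f ^ N)).hom = (0 : F.obj ⟶ F.obj) := by
    refine sheafify_hom_ext (Scheme.ProEt.topology X) _ _ F.property ?_
    rw [comp_zero]
    ext U x
    show f ^ N • (toSheafify (Scheme.ProEt.topology X) ((Functor.const X.ProEtᵒᵖ).obj M)).app U x = 0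
    refine (map_smul ((toSheafify (Scheme.ProEt.topology X) ((Functor.const X.ProEtᵒᵖ).obj M)).app U).hom
      (f ^ N) x).symm.trans ?_
    rw [show f ^ N • x = 0 from hN x, map_zero]
  exact bijective_of_nilpotent f N fun x => congr($(h0).app (op W) x)

theorem isZero_of_epi_gensMap {r : ℕ} (a : Fin r → Λ) (F : ModP Λ X)
    (hF : SecDC (Ideal.span (Set.range a)) F) (h0 : Epi (ProEtDC.gensMap Λ a F)) : IsZero F := by
  classical
  rw [IsZero.iff_id_eq_zero]
  refine EtModEps19.hom_ext_wc _ _ fun W hW x => ?_
  haveI : PreservesFiniteLimits (secF (Λ := Λ) (X := X) W) := comp_preservesFiniteLimits _ _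
  haveI : (secF (Λ := Λ) (X := X) W).Additive := inferInstance
  have : Subsingleton (F.obj.obj (op W)) := by
    refine subsingleton_of_smul_top (Finset.univ.image a) _ (fun c hc => ?_) fun y => ?_
    · obtain ⟨k, -, rfl⟩ := Finset.mem_image.1 hc
      exact hF _ (Ideal.subset_span ⟨k, rfl⟩) W hW
    · obtain ⟨z, rfl⟩ := EtModEps19.wc_surjective hW (ProEtDC.gensMap Λ a F) y
      have h := congrArg (fun φ => (secF W).map φ) (biproduct.total (f := fun _ : Fin r => F))
      simp only [Functor.map_sum, Functor.map_comp] at h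
      have h2 := congr($h z)
      simp at h2
      rw [← h2, map_sum]
      refine Submodule.sum_mem _ fun j _ => ?_
      have hj : ∀ w, (ProEtDC.gensMap Λ a F).hom.app (op W)
          ((biproduct.ι (fun _ : Fin r => F) j).hom.app (op W) w) = a j • w := fun w =>
        congr($(biproduct.ι_desc (fun k : Fin r => ProEtDC.smulHom Λ F (a k)) j).hom.app (op W) w)
      rw [hj]
      exact Submodule.smul_mem_smul (Ideal.subset_span (by simp)) Submodule.mem_top
  exact Subsingleton.elim _ _

end Groth.Agent.ProEtDC1
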