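import Groth.Agent.Lib.ProEtDC1.Props
import Mathlib.RingTheory.Filtration
import Mathlib.RingTheory.Polynomial.Basic
import Mathlib.RingTheory.MvPolynomial.Ideal
import Mathlib.Algebra.Order.Antidiag.Pi

/-!
Evaluation of power series on derived complete modules.
-/

universe u

namespace Groth.Agent.ProEtDC1

open scoped BigOperators
open Finset

set_option linter.unusedSectionVars false

variable {Λ : Type (u + 1)} [CommRing Λ]

section Ser

variable {M : Type (u + 1)} [AddCommGroup M] [Module Λ M]

/-- `shiftSub` as a linear map. -/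
def shiftSubL (f : Λ) : (I0.{u} → M) →ₗ[Λ] (I0.{u} → M) where
  toFun := shiftSub f
  map_add' s t := by
    funext i
    simp [shiftSub, smul_add]
    abel
  map_smul' c s := by
    funext i
    simp [shiftSub, smul_sub, smul_comm f c]

/-- All the scalars `a k` act derived completely. -/
def IsDCM {r : ℕ} (a : Fin r → Λ) (M : Type (u + 1)) [AddCommGroup M] [Module Λ M] : Prop :=
  ∀ k, Function.Bijective (shiftSub (a k) : (I0.{u} → M) → _)

/-- The sum `∑ f ^ i • y i`. -/
noncomputable def ser1 (f : Λ) (h : Function.Bijective (shiftSub f : (I0.{u} → M) → _)) :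
    (I0.{u} → M) →ₗ[Λ] M :=
  LinearMap.proj (⟨0⟩ : I0.{u}) ∘ₗ (LinearEquiv.ofBijective (shiftSubL f) h).symm.toLinearMap

lemma ser1_eq (f : Λ) (h : Function.Bijective (shiftSub f : (I0.{u} → M) → _)) (y : I0.{u} → M) :
    ser1 f h y = y ⟨0⟩ + f • ser1 f h (fun i => y (succ0 i)) := by
  let e := LinearEquiv.ofBijective (shiftSubL f) h
  have hy : shiftSub f (e.symm y) = y := e.apply_symm_apply y
  have h1 : e.symm (fun i => y (succ0 i)) = fun i => e.symm y (succ0 i) := by
    rw [LinearEquiv.symm_apply_eq]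
    exact funext fun i => (congrFun hy (succ0 i)).symm
  show e.symm y ⟨0⟩ = y ⟨0⟩ + f • e.symm (fun i => y (succ0 i)) ⟨0⟩
  rw [h1]
  nth_rw 2 [← hy]
  simp [shiftSub]

/-- The sum `∑ a ^ α • b α`. -/
noncomputable def ser : ∀ {r : ℕ} (a : Fin r → Λ) (_ : IsDCM a M), ((Fin r → ℕ) → M) →ₗ[Λ] M
  | 0, _, _ => LinearMap.proj 0
  | _ + 1, a, h => ser1 (a 0) (h 0) ∘ₗ LinearMap.pi fun i : I0.{u} =>
      ser (Fin.tail a) (fun k => h k.succ) ∘ₗ LinearMap.funLeft Λ M fun β => Fin.cons i.down β

lemma ser_succ_apply {r : ℕ} (a : Fin (r + 1) → Λ) (h : IsDCM a M) (b : (Fin (r + 1) → ℕ) → M) :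
    ser a h b = ser1 (a 0) (h 0) fun i => ser (Fin.tail a) (fun k => h k.succ) fun β => b (Fin.cons i.down β) :=
  rfl

/-- Multiplication of a family by the `k`th variable. -/
def shiftK {r : ℕ} (k : Fin r) (b : (Fin r → ℕ) → M) : (Fin r → ℕ) → M :=
  fun α => if α k = 0 then 0 else b (Function.update α k (α k - 1))

lemma ser_shiftK {r : ℕ} (a : Fin r → Λ) (h : IsDCM a M) (k : Fin r) (b : (Fin r → ℕ) → M) :
    ser a h (shiftK k b) = a k • ser a h b := by
  induction r with
  | zero => exact k.elim0
  | succ r ih =>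
    rw [ser_succ_apply, ser_succ_apply]
    induction k using Fin.cases with
    | zero =>
      rw [ser1_eq]
      have e0 : (fun β : Fin r → ℕ => shiftK 0 b (Fin.cons ((⟨0⟩ : I0.{u}).down) β)) = 0 := by
        funext β
        simp [shiftK]
      have e1 : ∀ i : I0.{u}, (fun β : Fin r → ℕ => shiftK 0 b (Fin.cons (succ0 i).down β)) =
          fun β => b (Fin.cons i.down β) := fun i => by
        funext β
        simp [shiftK, succ0, Fin.update_cons_zero]
      simp only [e0, map_zero, zero_add, e1]
    | succ k =>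
      have e : ∀ i : I0.{u}, (fun β : Fin r → ℕ => shiftK k.succ b (Fin.cons i.down β)) =
          shiftK k (fun β => b (Fin.cons i.down β)) := fun i => by
        funext β
        simp [shiftK, Fin.cons_update]
      simp only [e, ih (Fin.tail a) (fun k => h k.succ) k]
      exact map_smul (ser1 (a 0) (h 0)) (a k.succ) _

lemma ser_single_zero {r : ℕ} (a : Fin r → Λ) (h : IsDCM a M) (m : M) :
    ser a h (fun α => if α = 0 then m else 0) = m := by
  induction r with
  | zero => simp [ser]
  | succ r ih =>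
    rw [ser_succ_apply, ser1_eq]
    have e0 : ∀ β : Fin r → ℕ, ((Fin.cons 0 β : Fin (r + 1) → ℕ) = 0) ↔ β = 0 := fun β =>
      ⟨fun e => funext fun j => by simpa using congrFun e j.succ,
        fun e => funext fun j => by subst e; induction j using Fin.cases <;> simp⟩
    have e1 : ∀ (i : I0.{u}) (β : Fin r → ℕ), (Fin.cons (succ0 i).down β : Fin (r + 1) → ℕ) ≠ 0 := fun i β e => by
      have := congrFun e 0
      simp at this
    simp only [e0, ih, if_neg (e1 _ _)]
    rw [show (fun _ : Fin r → ℕ => (0 : M)) = 0 from rfl, map_zero,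
      show (fun _ : I0.{u} => (0 : M)) = 0 from rfl, map_zero, smul_zero, add_zero]

lemma ser_natural {N : Type (u + 1)} [AddCommGroup N] [Module Λ N] (φ : M →ₗ[Λ] N) {r : ℕ} (a : Fin r → Λ)
    (h : IsDCM a M) (h' : IsDCM a N) (b : (Fin r → ℕ) → M) : φ (ser a h b) = ser a h' fun α => φ (b α) := by
  induction r with
  | zero => rfl
  | succ r ih =>
    rw [ser_succ_apply, ser_succ_apply]
    simp only [← ih (Fin.tail a) (fun k => h k.succ) (fun k => h' k.succ)]
    let e := LinearEquiv.ofBijective (shiftSubL (a 0)) (h 0)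
    let e' := LinearEquiv.ofBijective (shiftSubL (a 0)) (h' 0)
    generalize hy : (fun i : I0.{u} => ser (Fin.tail a) (fun k => h k.succ) fun β => b (Fin.cons i.down β)) = y
    show φ (e.symm y ⟨0⟩) = e'.symm (fun i : I0.{u} => φ (ser (Fin.tail a) _ fun β => b (Fin.cons i.down β))) ⟨0⟩
    rw [show (fun i : I0.{u} => φ (ser (Fin.tail a) (fun k => h k.succ) fun β => b (Fin.cons i.down β))) = φ ∘ y
      from hy ▸ rfl]
    refine (congrFun (((LinearEquiv.symm_apply_eq e').2 ?_) : e'.symm (φ ∘ y) = φ ∘ (e.symm y)) ⟨0⟩).symm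
    show φ ∘ y = shiftSub (a 0) (φ ∘ e.symm y)
    rw [shiftSub_map]
    exact congrArg (φ ∘ ·) (e.apply_symm_apply y).symm

end Ser

section Degree

variable {r : ℕ} (a : Fin r → Λ)

/-- The monomial with exponent `α`. -/
def mon (α : Fin r → ℕ) : Λ := ∏ i, a i ^ α i

/-- The degree. -/
def deg (α : Fin r → ℕ) : ℕ := ∑ i, α i

/-- Exponents of degree `n`. -/
def expo (r n : ℕ) : Finset (Fin r → ℕ) := (univ : Finset (Fin r)).piAntidiag n

lemma mem_expo {n : ℕ} {α : Fin r → ℕ} : α ∈ expo r n ↔ deg α = n := by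
  simp [expo, deg, Finset.mem_piAntidiag]

/-- Raise the `k`th exponent. -/
def up (k : Fin r) (α : Fin r → ℕ) : Fin r → ℕ := Function.update α k (α k + 1)

lemma up_apply (k : Fin r) (α : Fin r → ℕ) : up k α k = α k + 1 := Function.update_self _ _ _

lemma up_down (k : Fin r) {β : Fin r → ℕ} (h : β k ≠ 0) : up k (Function.update β k (β k - 1)) = β := by
  simp [up, Function.update_idem, Nat.succ_pred_eq_of_ne_zero h, Nat.sub_add_cancel (Nat.one_le_iff_ne_zero.2 h)]

lemma down_up (k : Fin r) (α : Fin r → ℕ) : Function.update (up k α) k (up k α k - 1) = α := by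
  simp [up, Function.update_idem]

lemma deg_up (k : Fin r) (α : Fin r → ℕ) : deg (up k α) = deg α + 1 := by
  simp only [deg, up, Finset.sum_update_of_mem (mem_univ k)]
  rw [← Finset.add_sum_erase univ α (mem_univ k), Finset.sdiff_singleton_eq_erase]
  ring

lemma mon_up (k : Fin r) (α : Fin r → ℕ) : mon a (up k α) = a k * mon a α := by
  simp only [mon, up]
  rw [← Finset.mul_prod_erase univ _ (mem_univ k), ← Finset.mul_prod_erase univ (fun i => a i ^ α i) (mem_univ k),
    Function.update_self, pow_succ', mul_assoc]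
  congr 2
  refine Finset.prod_congr rfl fun i hi => ?_
  rw [Function.update_of_ne (Finset.ne_of_mem_erase hi)]

lemma mon_zero : mon a 0 = 1 := by simp [mon]

lemma deg_eq_zero {α : Fin r → ℕ} : deg α = 0 ↔ α = 0 := by
  simp [deg, funext_iff, Finset.sum_eq_zero_iff]

open Classical in
/-- A positive coordinate. -/
noncomputable def sel (β : Fin r → ℕ) : Option (Fin r) :=
  if h : ∃ k, β k ≠ 0 then some h.choose else none

variable {M : Type (u + 1)} [AddCommGroup M] [Module Λ M]

/-- The parts of a family divided by the variables. -/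
noncomputable def part (D : (Fin r → ℕ) → M) (k : Fin r) : (Fin r → ℕ) → M :=
  fun α => if sel (up k α) = some k then D (up k α) else 0

lemma sum_shiftK_part (D : (Fin r → ℕ) → M) (h0 : D 0 = 0) : ∑ k, shiftK k (part D k) = D := by
  funext β
  rw [Finset.sum_apply]
  by_cases h : ∃ k, β k ≠ 0
  · have hk := h.choose_spec
    have hsel : sel β = some h.choose := by simp [sel, h]
    rw [Finset.sum_eq_single h.choose]
    · simp [shiftK, hk, part, up_down _ hk, hsel]
    · intro k _ hne
      by_cases hk' : β k = 0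
      · simp [shiftK, hk']
      · simp [shiftK, hk', part, up_down _ hk', hsel, Ne.symm hne]
    · simp
  · push_neg at h
    rw [show β = 0 from funext h, h0]
    simp [shiftK]

lemma sum_mon_shiftK (n : ℕ) (k : Fin r) (G : (Fin r → ℕ) → M) :
    ∑ β ∈ expo r (n + 1), mon a β • shiftK k G β = ∑ α ∈ expo r n, mon a α • a k • G α := by
  classical
  rw [← Finset.sum_filter_add_sum_filter_not (expo r (n + 1)) (fun β => β k ≠ 0),
    Finset.sum_eq_zero (s := (expo r (n + 1)).filter fun β => ¬ β k ≠ 0) (fun β hβ => by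
      simp [shiftK, not_not.1 (Finset.mem_filter.1 hβ).2]), add_zero]
  symm
  refine Finset.sum_nbij' (up k) (fun β => Function.update β k (β k - 1)) ?_ ?_ ?_ ?_ ?_
  · intro α hα
    simp only [Finset.mem_coe, Finset.mem_filter, mem_expo] at hα ⊢
    exact ⟨by rw [deg_up, hα], by simp [up_apply]⟩
  · intro β hβ
    simp only [Finset.mem_coe, Finset.mem_filter, mem_expo] at hβ ⊢
    have := deg_up k (Function.update β k (β k - 1))
    rw [up_down k hβ.2, hβ.1] at this
    omega
  · intro α _; exact down_up k α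
  · intro β hβ
    exact up_down k (Finset.mem_filter.1 hβ).2
  · intro α _
    rw [mon_up, smul_smul, mul_comm (mon a α), shiftK, if_neg (by simp [up_apply]), down_up]

variable (hM : IsDCM a M)

lemma ser_eq_smul_part (D : (Fin r → ℕ) → M) (h0 : D 0 = 0) :
    ser a hM D = ∑ k, a k • ser a hM (part D k) := by
  conv_lhs => rw [← sum_shiftK_part D h0]
  simp [map_sum, ser_shiftK]

lemma ser_mem_pow (n : ℕ) : ∀ D : (Fin r → ℕ) → M, (∀ α, deg α < n → D α = 0) →
    ser a hM D ∈ Ideal.span (Set.range a) ^ n • (⊤ : Submodule Λ M) := by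
  induction n with
  | zero => intro D _; simp
  | succ n ih =>
    intro D hD
    rw [ser_eq_smul_part a hM D (hD 0 (by simp [deg])), pow_succ', Submodule.mul_smul]
    refine Submodule.sum_mem _ fun k _ => Submodule.smul_mem_smul (Ideal.subset_span ⟨k, rfl⟩) (ih _ fun α hα => ?_)
    simp only [part]
    split
    · exact hD _ (by rw [deg_up]; omega)
    · rfl

lemma ser_single : ∀ (d : ℕ) (α : Fin r → ℕ), deg α = d → ∀ m : M,
    ser a hM (fun β => if β = α then m else 0) = mon a α • m := by
  classical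
  intro d
  induction d with
  | zero =>
    intro α hα m
    rw [deg_eq_zero.1 hα, mon_zero, one_smul]
    convert ser_single_zero a hM m
  | succ d ih =>
    intro α hα m
    obtain ⟨k, hk⟩ : ∃ k, α k ≠ 0 := by
      by_contra h
      push_neg at h
      rw [show α = 0 from funext h] at hα
      simp [deg] at hα
    let α' := Function.update α k (α k - 1)
    have hα' : up k α' = α := up_down k hk
    have hd : deg α' = d := by
      have := deg_up k α'
      rw [hα', hα] at this
      omega
    have e : (fun β => if β = α then m else 0) = shiftK k fun β => if β = α' then m else 0 := by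
      funext β
      by_cases hb : β k = 0
      · have : β ≠ α := fun e => hk (e ▸ hb)
        simp [shiftK, hb, this]
      · have : β = α ↔ Function.update β k (β k - 1) = α' :=
          ⟨fun e => e ▸ rfl, fun e => by rw [← up_down k hb, e, hα']⟩
        simp [shiftK, hb, this]
    rw [e, ser_shiftK, ih α' hd, smul_smul, ← mon_up, hα']

/-- A series agrees with its truncation up to the power of the ideal. -/
theorem ser_sub_trunc_mem (n : ℕ) (b : (Fin r → ℕ) → M) :
    ser a hM b - ∑ i ∈ range n, ∑ α ∈ expo r i, mon a α • b α ∈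
      Ideal.span (Set.range a) ^ n • (⊤ : Submodule Λ M) := by
  classical
  have e : ∑ i ∈ range n, ∑ α ∈ expo r i, mon a α • b α =
      ser a hM (∑ i ∈ range n, ∑ α ∈ expo r i, fun β => if β = α then b α else 0) := by
    simp only [map_sum]
    exact Finset.sum_congr rfl fun i _ => Finset.sum_congr rfl fun α _ => (ser_single a hM _ α rfl _).symm
  rw [e, ← map_sub]
  refine ser_mem_pow a hM n _ fun α hα => ?_
  simp only [Pi.sub_apply, Finset.sum_apply]
  rw [Finset.sum_eq_single (deg α), Finset.sum_eq_single α]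
  · simp
  · intro β _ hne; simp [Ne.symm hne]
  · simp [mem_expo]
  · intro i _ hne
    refine Finset.sum_eq_zero fun β hβ => if_neg fun e => hne ?_
    rw [e, mem_expo.1 hβ]
  · intro h
    exact absurd (Finset.mem_range.2 hα) h

lemma pow_le_span_mon (n : ℕ) :
    Ideal.span (Set.range a) ^ n ≤ Ideal.span (mon a '' (expo r n : Set (Fin r → ℕ))) := by
  induction n with
  | zero =>
    rw [pow_zero, Ideal.one_eq_top, top_le_iff, Ideal.eq_top_iff_one]
    exact Ideal.subset_span ⟨0, by simp [mem_expo, deg], mon_zero a⟩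
  | succ n ih =>
    refine (pow_succ' (Ideal.span (Set.range a)) n).le.trans ((Ideal.mul_mono_right ih).trans ?_)
    rw [Ideal.span_mul_span', Ideal.span_le]
    rintro _ ⟨_, ⟨k, rfl⟩, _, ⟨α, hα, rfl⟩, rfl⟩
    exact Ideal.subset_span ⟨up k α, by simpa [mem_expo, deg_up] using mem_expo.1 hα, mon_up a k α⟩

end Degree

section ArtinRees

open MvPolynomial

variable [IsNoetherianRing Λ] {r : ℕ} (a : Fin r → Λ)

lemma sub_eval_mem_span (p : MvPolynomial (Fin r) Λ) :
    p - C (eval a p) ∈ Ideal.span (Set.range fun k => X k - C (a k)) := by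
  induction p using MvPolynomial.induction_on with
  | C c => simp
  | add p q hp hq =>
    rw [map_add, map_add, add_sub_add_comm]
    exact Ideal.add_mem _ hp hq
  | mul_X p k hp =>
    rw [map_mul, eval_X, map_mul,
      show p * X k - C (eval a p) * C (a k) = (p - C (eval a p)) * X k + C (eval a p) * (X k - C (a k)) by ring]
    exact Ideal.add_mem _ (Ideal.mul_mem_right _ _ hp) (Ideal.mul_mem_left _ _ (Ideal.subset_span ⟨k, rfl⟩))

/-- The polynomial with the given coefficients in degree `n`. -/
noncomputable def hom (n : ℕ) (v : (Fin r → ℕ) → Λ) : MvPolynomial (Fin r) Λ :=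
  ∑ α ∈ expo r n, monomial (Finsupp.equivFunOnFinite.symm α) (v α)

lemma coeff_hom (n : ℕ) (v : (Fin r → ℕ) → Λ) (α : Fin r → ℕ) :
    coeff (Finsupp.equivFunOnFinite.symm α) (hom n v) = if deg α = n then v α else 0 := by
  classical
  simp only [hom, coeff_sum, coeff_monomial, EmbeddingLike.apply_eq_iff_eq]
  rw [Finset.sum_ite_eq']
  simp [mem_expo]

lemma eval_hom (n : ℕ) (v : (Fin r → ℕ) → Λ) : eval a (hom n v) = ∑ α ∈ expo r n, mon a α * v α := by
  simp only [hom, map_sum, eval_monomial, mon]
  refine Finset.sum_congr rfl fun α _ => ?_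
  rw [mul_comm]
  congr 1
  exact Finsupp.prod_fintype _ _ (by simp)

/-- Relations in degree `n` come from the relations `X k - a k` with coefficients in degrees `≥ n - c`. -/
theorem exists_rel_decomp :
    ∃ c : ℕ, ∀ (n : ℕ) (v : (Fin r → ℕ) → Λ), ∑ α ∈ expo r n, mon a α * v α = 0 →
      ∃ p : Fin r → (Fin r → ℕ) → Λ, (∀ k α, deg α < n - c → p k α = 0) ∧
        ∀ α, (if deg α = n then v α else 0) = ∑ k, (shiftK k (p k) α - a k * p k α) := by
  let P := MvPolynomial (Fin r) Λ
  let T : Ideal P := idealOfVars (Fin r) Λ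
  let R : Ideal P := Ideal.span (Set.range fun k : Fin r => X k - C (a k))
  obtain ⟨c, hc⟩ := Ideal.exists_pow_inf_eq_pow_smul T (R : Submodule P P)
  refine ⟨c, fun n v hv => ?_⟩
  have hR : hom n v ∈ R := by
    have := sub_eval_mem_span a (hom n v)
    rwa [eval_hom, hv, map_zero, sub_zero] at this
  have hT : hom n v ∈ T ^ n := by
    rw [mem_pow_idealOfVars_iff]
    intro x hx
    by_contra h
    rw [MvPolynomial.mem_support_iff, ← Finsupp.equivFunOnFinite.symm_apply_apply x, coeff_hom] at hx
    refine hx (if_neg fun e => h ?_)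
    rw [← e, Finsupp.degree_eq_sum]
    exact le_of_eq rfl
  have hmem : hom n v ∈ T ^ (n - c) * R := by
    by_cases hn : c ≤ n
    · have h1 : hom n v ∈ (T ^ n • ⊤ ⊓ (R : Submodule P P)) := ⟨by simpa using hT, hR⟩
      rw [hc n hn] at h1
      exact Submodule.smul_mono le_rfl inf_le_right h1
    · rw [show n - c = 0 by omega, pow_zero, Ideal.one_eq_top, Ideal.top_mul]
      exact hR
  obtain ⟨q, hq, hsum⟩ : ∃ q : Fin r → P, (∀ k, q k ∈ T ^ (n - c)) ∧ ∑ k, q k * (X k - C (a k)) = hom n v := by
    refine Submodule.smul_induction_on (p := fun y => ∃ q : Fin r → P,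
      (∀ k, q k ∈ T ^ (n - c)) ∧ ∑ k, q k * (X k - C (a k)) = y) hmem (fun t ht x hx => ?_) ?_
    · obtain ⟨d, hd⟩ := Ideal.mem_span_range_iff_exists_fun.1 hx
      refine ⟨fun k => t * d k, fun k => Ideal.mul_mem_right _ _ ht, ?_⟩
      rw [smul_eq_mul, ← hd, Finset.mul_sum]
      exact Finset.sum_congr rfl fun k _ => mul_assoc _ _ _
    · rintro x y ⟨f, hf, rfl⟩ ⟨g, hg, rfl⟩
      exact ⟨f + g, fun k => Ideal.add_mem _ (hf k) (hg k), by simp [add_mul, Finset.sum_add_distrib]⟩
  refine ⟨fun k α => coeff (Finsupp.equivFunOnFinite.symm α) (q k), fun k α hα => ?_, fun α => ?_⟩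
  · by_contra h
    have := (mem_pow_idealOfVars_iff _ _).1 (hq k) _ (MvPolynomial.mem_support_iff.2 h)
    rw [Finsupp.degree_eq_sum] at this
    exact absurd hα (not_lt.2 this)
  · rw [← coeff_hom n v α, ← hsum, coeff_sum]
    refine Finset.sum_congr rfl fun k _ => ?_
    rw [mul_sub, coeff_sub, coeff_mul_X', mul_comm (q k), coeff_C_mul]
    congr 1
    simp only [shiftK, Finsupp.mem_support_iff, Finsupp.coe_equivFunOnFinite_symm, ne_eq, ite_not]
    congr 1
    congr 1
    ext j
    by_cases hj : j = k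
    · subst hj; simp
    · simp [hj, Finsupp.single_eq_of_ne hj]

end ArtinRees

end Groth.Agent.ProEtDC1
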