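import Groth.Agent.Lib.ProEtDC1.Criterion
import Groth.Agent.Lib.KInj.Detect
import Groth.Agent.Lib.EtModEps19.AdicLim
import Groth.Prelude.Def_ProEtDC
import Mathlib.Algebra.Homology.DerivedCategory.Ext.ExactSequences
import Mathlib.Algebra.Homology.ShortComplex.ExactFunctor

/-!
Derived completeness of sheaves of modules on the pro-étale site in terms of sections on weakly
contractible objects.
-/

universe u

open CategoryTheory Limits AlgebraicGeometry Opposite

namespace Groth.Agent.ProEtDC1

set_option backward.isDefEq.respectTransparency false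
set_option backward.isDefEq.respectTransparency.types false
set_option linter.style.haveILetI false
set_option linter.unusedSectionVars false
set_option maxHeartbeats 800000

attribute [local instance] HasDerivedCategory.standard

open EtModW (ModP)

variable {Λ : Type (u + 1)} [CommRing Λ] {X : Scheme.{u}}

/-- The index type. -/
abbrev I0 : Type (u + 1) := ULift.{u + 1} ℕ

/-- The successor. -/
abbrev succ0 : I0.{u} → I0.{u} := fun i => ⟨i.down + 1⟩

/-- Multiplication by a scalar as a natural transformation. -/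
noncomputable def theta (f : Λ) : 𝟭 (ModP Λ X) ⟶ 𝟭 (ModP Λ X) where
  app F := ProEtDC.smulHom Λ F f
  naturality F G φ := by
    ext U x
    exact (map_smul (φ.hom.app U).hom f x).symm

lemma theta_app (f : Λ) (F : ModP Λ X) (U : X.ProEtᵒᵖ) (x : F.obj.obj U) :
    (th (theta f) F).hom.app U x = f • x := rfl

/-- Sections over an object. -/
noncomputable abbrev secF (U : X.ProEt) : ModP Λ X ⥤ ModuleCat.{u + 1} Λ :=
  sheafToPresheaf (Scheme.ProEt.topology X) (ModuleCat.{u + 1} Λ) ⋙ (evaluation _ _).obj (op U)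

lemma surjective_of_lifts {J : Type (u + 1)} (U : X.ProEt) (D : Discrete J ⥤ ModP Λ X)
    (x : ∀ j : J, (D.obj ⟨j⟩).obj.obj (op U)) :
    ∃! y : (limit D).obj.obj (op U), ∀ j, (limit.π D ⟨j⟩).hom.app (op U) y = x j := by
  obtain ⟨y, hy, hy'⟩ := (Types.isLimit_iff ((secF U ⋙ forget _).mapCone (limit.cone D))).1
    ⟨isLimitOfPreserves (secF U ⋙ forget _) (limit.isLimit D)⟩ (fun j => x j.as) (by
      rintro ⟨i⟩ ⟨j⟩ ⟨⟨h⟩⟩
      obtain rfl : i = j := h
      simp)
  exact ⟨y, fun j => hy ⟨j⟩, fun z hz => hy' z fun j => hz j.as⟩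

lemma epi_of_surjective_wc {F G : ModP Λ X} (φ : F ⟶ G)
    (h : ∀ W : X.ProEt, ProEtS.IsWC W → Function.Surjective (φ.hom.app (op W))) : Epi φ :=
  ⟨fun a b hab => EtModEps19.hom_ext_wc a b fun W hW x => by
    obtain ⟨y, rfl⟩ := h W hW x
    exact congr($(hab).hom.app (op W) y)⟩

lemma isIso_of_bijective_wc {F G : ModP Λ X} (φ : F ⟶ G)
    (h : ∀ W : X.ProEt, ProEtS.IsWC W → Function.Bijective (φ.hom.app (op W))) : IsIso φ :=
  haveI := epi_of_surjective_wc φ fun W hW => (h W hW).2
  haveI : Mono φ := ⟨fun a b hab => EtModEps19.hom_ext_wc a b fun W hW x =>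
    (h W hW).1 congr($(hab).hom.app (op W) x)⟩
  isIso_of_mono_of_epi φ

instance hasExactLimitsOfShape_discrete (J : Type (u + 1)) :
    HasExactLimitsOfShape (Discrete J) (ModP Λ X) where
  preservesFiniteColimits := by
    haveI : (lim (J := Discrete J) (C := ModP Λ X)).Additive := Functor.additive_of_preserves_binary_products _
    haveI : (lim (J := Discrete J) (C := ModP Λ X)).PreservesEpimorphisms := ⟨fun {D D'} φ _ => by
      refine epi_of_surjective_wc _ fun W hW x => ?_
      choose y hy using fun j : J => EtModEps19.wc_surjective hW (φ.app ⟨j⟩) ((limit.π D' ⟨j⟩).hom.app (op W) x)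
      obtain ⟨z, hz, -⟩ := surjective_of_lifts W D y
      refine ⟨z, (surjective_of_lifts W D' _).unique (fun j => ?_) fun j => rfl⟩
      refine (congr($(limMap_π φ ⟨j⟩).hom.app (op W) z)).trans ?_
      show (φ.app ⟨j⟩).hom.app (op W) ((limit.π D ⟨j⟩).hom.app (op W) z) = _
      rw [hz, hy]⟩
    refine ((Functor.preservesFiniteColimits_tfae (lim (J := Discrete J) (C := ModP Λ X))).out 0 3).mp ?_
    intro S hS
    haveI := hS.epi_g
    exact ⟨hS.exact.map_of_mono_of_preservesKernel _ hS.mono_f inferInstance, inferInstance⟩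

/-- The sections of a power. -/
noncomputable def secPow (U : X.ProEt) (F : ModP Λ X) (x : ((pow I0.{u}).obj F).obj.obj (op U)) :
    I0.{u} → F.obj.obj (op U) :=
  fun i => (prj I0 F i).hom.app (op U) x

lemma secPow_bijective (U : X.ProEt) (F : ModP Λ X) : Function.Bijective (secPow U F) :=
  ⟨fun _ y h => (surjective_of_lifts U ((Functor.const _).obj F) (secPow U F y)).unique (fun j => congrFun h j)
      fun _ => rfl,
    fun x => by
      obtain ⟨y, hy, -⟩ := surjective_of_lifts U ((Functor.const _).obj F) x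
      exact ⟨y, funext hy⟩⟩

/-- The map `(x_i) ↦ (x_i - f x_{i+1})`. -/
def shiftSub {M : Type*} [AddCommGroup M] [Module Λ M] (f : Λ) (x : I0.{u} → M) : I0.{u} → M :=
  fun i => x i - f • x (succ0 i)

lemma secPow_tau (f : Λ) (U : X.ProEt) (F : ModP Λ X) (x : ((pow I0.{u}).obj F).obj.obj (op U)) :
    secPow U F (((tau I0 succ0 (theta f)).app F).hom.app (op U) x) = shiftSub f (secPow U F x) := by
  funext i
  exact congr($(tau_prj I0 succ0 (theta f) F i).hom.app (op U) x)

lemma bijective_shiftSub_iff (f : Λ) (U : X.ProEt) (F : ModP Λ X) :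
    Function.Bijective (shiftSub f : (I0.{u} → F.obj.obj (op U)) → _) ↔
      Function.Bijective (((tau I0 succ0 (theta f)).app F).hom.app (op U)) := by
  have h : secPow U F ∘ (((tau I0 succ0 (theta f)).app F).hom.app (op U)) = shiftSub f ∘ secPow U F :=
    funext (secPow_tau f U F)
  rw [← (secPow_bijective U F).of_comp_iff' (((tau I0 succ0 (theta f)).app F).hom.app (op U)), h,
    Function.Bijective.of_comp_iff _ (secPow_bijective U F)]

lemma isIso_tau_iff (f : Λ) (F : ModP Λ X) :
    IsIso ((tau I0 succ0 (theta f)).app F) ↔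
      ∀ W : X.ProEt, ProEtS.IsWC W → Function.Bijective (shiftSub f : (I0.{u} → F.obj.obj (op W)) → _) := by
  refine ⟨fun h W _ => (bijective_shiftSub_iff f W F).2 ?_,
    fun h => isIso_of_bijective_wc _ fun W hW => (bijective_shiftSub_iff f W F).1 (h W hW)⟩
  haveI : IsIso ((secF W).map ((tau I0 succ0 (theta f)).app F)) := inferInstance
  exact ConcreteCategory.bijective_of_isIso _

/-- The functor `M ↦ j_{U!} M`. -/
noncomputable abbrev jShriek (U : X.ProEt) : ModuleCat.{u + 1} Λ ⥤ ModP Λ X :=
  constantSheaf ((Scheme.ProEt.topology X).over U) (ModuleCat.{u + 1} Λ) ⋙ ProEtDC.extZeroModP Λ U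

/-- `j_{U!}` is left adjoint to sections. -/
noncomputable def jAdj (U : X.ProEt) : jShriek (Λ := Λ) U ⊣ secF U :=
  ((constantSheafAdj _ _ (Over.mkIdTerminal (X := U))).comp
    ((Over.forget U).sheafAdjunctionContinuous (ModuleCat.{u + 1} Λ) ((Scheme.ProEt.topology X).over U)
      (Scheme.ProEt.topology X))).ofNatIsoRight (NatIso.ofComponents fun _ => Iso.refl _)

/-- The free sheaf on `U`. -/
noncomputable abbrev free (U : X.ProEt) : ModP Λ X := (jShriek U).obj (ModuleCat.of Λ Λ)

/-- A map out of the free sheaf as a section. -/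
noncomputable def elt (U : X.ProEt) {F : ModP Λ X} (g : free U ⟶ F) : F.obj.obj (op U) :=
  ((jAdj U).homEquiv _ F g).hom (1 : Λ)

lemma elt_bijective (U : X.ProEt) (F : ModP Λ X) : Function.Bijective (elt (Λ := Λ) U (F := F)) := by
  refine ⟨fun a b h => ((jAdj U).homEquiv _ F).injective (ModuleCat.hom_ext (LinearMap.ext_ring h)), fun s => ?_⟩
  refine ⟨((jAdj U).homEquiv _ F).symm (ModuleCat.ofHom (LinearMap.toSpanSingleton Λ _ s)), ?_⟩
  unfold elt
  erw [Equiv.apply_symm_apply]
  exact one_smul Λ s

lemma elt_comp (U : X.ProEt) {F G : ModP Λ X} (g : free U ⟶ F) (h : F ⟶ G) :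
    elt U (g ≫ h) = h.hom.app (op U) (elt U g) := by
  unfold elt
  erw [Adjunction.homEquiv_naturality_right]
  rfl

lemma projective_free {W : X.ProEt} (hW : ProEtS.IsWC W) : Projective (free (Λ := Λ) W) where
  factors {E G} f e _ := by
    obtain ⟨y, hy⟩ := EtModEps19.wc_surjective hW e (elt W f)
    obtain ⟨g, rfl⟩ := (elt_bijective W E).2 y
    exact ⟨g, (elt_bijective W G).1 (by rw [elt_comp]; exact hy)⟩

/-- A map out of a copower of the free sheaf as a family of sections. -/
noncomputable def eltPow (U : X.ProEt) {F : ModP Λ X} (g : (copow I0.{u}).obj (free U) ⟶ F) :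
    I0.{u} → F.obj.obj (op U) :=
  secPow U F (elt U ((powAdj I0).homEquiv _ F g))

lemma eltPow_bijective (U : X.ProEt) (F : ModP Λ X) : Function.Bijective (eltPow (Λ := Λ) U (F := F)) :=
  (secPow_bijective U F).comp ((elt_bijective U _).comp ((powAdj I0).homEquiv _ F).bijective)

lemma eltPow_comp (U : X.ProEt) {F G : ModP Λ X} (g : (copow I0.{u}).obj (free U) ⟶ F) (h : F ⟶ G) :
    eltPow U (g ≫ h) = fun i => h.hom.app (op U) (eltPow U g i) := by
  funext i
  simp only [eltPow, secPow, Adjunction.homEquiv_naturality_right, elt_comp]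
  exact congr($(map_prj I0 h i).hom.app (op U) _)

lemma eltPow_delta (f : Λ) (U : X.ProEt) {F : ModP Λ X} (g : (copow I0.{u}).obj (free U) ⟶ F) :
    eltPow U ((delta I0 succ0 (theta f)).app (free U) ≫ g) = shiftSub f (eltPow U g) := by
  simp only [eltPow, homEquiv_delta, elt_comp]
  exact secPow_tau f U F _

/-- An injection into a copower. -/
noncomputable abbrev inj {B : Type*} [Category.{u + 1} B] [HasColimitsOfShape (Discrete I0.{u}) B]
    (P : B) (i : I0.{u}) : P ⟶ (copow I0.{u}).obj P :=
  colimit.ι ((Functor.const (Discrete I0.{u})).obj P) ⟨i⟩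

lemma copow_ι_delta {B : Type*} [Category.{u + 1} B] [Abelian B] [HasLimitsOfShape (Discrete I0.{u}) B]
    [HasColimitsOfShape (Discrete I0.{u}) B] (σ : I0.{u} → I0.{u}) (θ : 𝟭 B ⟶ 𝟭 B) (P : B) (i : I0.{u}) :
    inj P i ≫ (delta I0 σ θ).app P = inj P i - th θ P ≫ inj P (σ i) := by
  have hl : ∀ {M : B} (g : (copow I0.{u}).obj P ⟶ M) (j : I0.{u}),
      (powAdj I0).homEquiv P M g ≫ prj I0 M j = inj P j ≫ g := fun g j => by
    rw [Adjunction.homEquiv_unit, powAdj, Adjunction.comp_unit_app]
    simp [constLimAdj, colimConstAdj]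
  have h := hl ((delta I0 σ θ).app P ≫ 𝟙 _) i
  rw [homEquiv_delta, Category.assoc, tau_prj, Preadditive.comp_sub, hl, ← Category.assoc, hl, Category.comp_id,
    Category.comp_id, Category.comp_id] at h
  rw [← h]
  congr 1
  exact θ.naturality (inj P (σ i))

open Classical in
theorem mono_delta {B : Type*} [Category.{u + 1} B] [Abelian B] [IsGrothendieckAbelian.{u + 1} B]
    [HasLimitsOfShape (Discrete I0.{u}) B] [HasColimitsOfShape (Discrete I0.{u}) B] (θ : 𝟭 B ⟶ 𝟭 B) (P : B) :
    Mono ((delta I0 succ0 θ).app P) := by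
  let c : ℕ → ((copow I0.{u}).obj P ⟶ P) := fun t =>
    colimit.desc _ (Cocone.mk P (Discrete.natTrans fun i => if i.as.down = t then 𝟙 P else 0))
  have hc : ∀ t (i : I0.{u}), inj P i ≫ c t = if i.down = t then 𝟙 P else 0 :=
    fun t i => colimit.ι_desc _ _
  have h0 : (delta I0 succ0 θ).app P ≫ c 0 = c 0 := colimit.hom_ext fun ⟨i⟩ => by
    show inj P i ≫ _ ≫ _ = inj P i ≫ _
    rw [← Category.assoc, copow_ι_delta, Preadditive.sub_comp, Category.assoc, hc, hc,
      if_neg (show (succ0 i).down ≠ 0 from Nat.succ_ne_zero _)]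
    simp
  have hs : ∀ t, (delta I0 succ0 θ).app P ≫ c (t + 1) = c (t + 1) - c t ≫ th θ P := fun t => by
    refine colimit.hom_ext fun ⟨i⟩ => ?_
    show inj P i ≫ _ ≫ _ = inj P i ≫ _
    rw [← Category.assoc, copow_ι_delta, Preadditive.sub_comp, Category.assoc, Preadditive.comp_sub,
      ← Category.assoc (inj P i) (c t), hc, hc, hc]
    have e : (succ0 i).down = t + 1 ↔ i.down = t := ⟨fun h => Nat.succ_injective h, fun h => congrArg (· + 1) h⟩
    by_cases h : i.down = t <;> simp [h, e]
  refine Preadditive.mono_of_cancel_zero _ fun {Z} z hz => ?_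
  have hz' : ∀ t, z ≫ c t = 0 := fun t => by
    induction t with
    | zero => rw [← h0, ← Category.assoc, hz, zero_comp]
    | succ t ih =>
      have h := congrArg (· ≫ c (t + 1)) hz
      simp only [Category.assoc, zero_comp, hs, Preadditive.comp_sub] at h
      rw [← Category.assoc, ih, zero_comp, sub_zero] at h
      exact h
  let e : (copow I0.{u}).obj P ≅ ∐ fun _ : I0.{u} => P :=
    HasColimit.isoOfNatIso (Discrete.natIso fun _ => Iso.refl _)
  rw [← cancel_mono e.hom, zero_comp]
  refine KInjLib.eq_zero_of_sigmaProj _ _ fun t => ?_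
  rw [Category.assoc, show e.hom ≫ KInjLib.sigmaProj (fun _ : I0.{u} => P) t = c t.down from ?_, hz']
  refine colimit.hom_ext fun ⟨i⟩ => ?_
  rw [hc, ← Category.assoc]
  refine (congrArg (· ≫ _) (HasColimit.isoOfNatIso_ι_hom _ _)).trans ?_
  by_cases h : i = t
  · subst h; simp [KInjLib.ι_sigmaProj_self]
  · rw [if_neg fun e => h (ULift.ext _ _ e)]
    simp [KInjLib.ι_sigmaProj_of_ne _ h]

/-- The map `Λ^{(ℕ)} → Λ_f`, `e_n ↦ f^{-n}`. -/
noncomputable def genMap (f : Λ) : (I0.{u} →₀ Λ) →ₗ[Λ] Localization.Away f :=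
  Finsupp.linearCombination Λ fun i => IsLocalization.mk' _ (1 : Λ) (⟨f ^ i.down, i.down, rfl⟩ : Submonoid.powers f)

lemma genMap_surjective (f : Λ) : Function.Surjective (genMap.{u} f) := fun x => by
  obtain ⟨a, ⟨_, n, rfl⟩, rfl⟩ := IsLocalization.exists_mk'_eq (Submonoid.powers f) x
  refine ⟨Finsupp.single ⟨n⟩ a, ?_⟩
  simp [genMap, IsLocalization.smul_mk']

lemma linearCombination_eq_zero {M : Type*} [AddCommGroup M] [Module Λ M] (f : Λ) (s : I0.{u} → M)
    (hs : shiftSub f s = 0) (c : I0.{u} →₀ Λ) (hc : genMap f c = 0) : Finsupp.linearCombination Λ s c = 0 := by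
  have hpow : ∀ n k : ℕ, s ⟨n⟩ = f ^ k • s ⟨n + k⟩ := fun n k => by
    induction k with
    | zero => simp
    | succ k ih =>
      rw [ih, sub_eq_zero.1 (congrFun hs ⟨n + k⟩), smul_smul, ← pow_succ]
      rfl
  let N := c.support.sup ULift.down
  have hN : ∀ i ∈ c.support, i.down + (N - i.down) = N := fun i hi =>
    Nat.add_sub_cancel' (Finset.le_sup (f := ULift.down) hi)
  have e1 : Finsupp.linearCombination Λ s c = (∑ i ∈ c.support, c i * f ^ (N - i.down)) • s ⟨N⟩ := by
    rw [Finsupp.linearCombination_apply, Finsupp.sum, Finset.sum_smul]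
    refine Finset.sum_congr rfl fun i hi => ?_
    rw [mul_smul, show (s i) = _ from hpow i.down (N - i.down), hN i hi]
  have e2 : algebraMap Λ (Localization.Away f) (∑ i ∈ c.support, c i * f ^ (N - i.down)) = 0 := by
    have h := congrArg (algebraMap Λ (Localization.Away f) (f ^ N) * ·) hc
    simp only [mul_zero, genMap, Finsupp.linearCombination_apply, Finsupp.sum, Finset.mul_sum] at h
    rw [map_sum]
    refine (Finset.sum_congr rfl fun i hi => ?_).trans h
    rw [Algebra.smul_def, map_mul, ← hN i hi, pow_add, map_mul, hN i hi]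
    have hm := IsLocalization.mk'_spec' (Localization.Away f) (1 : Λ)
      (⟨f ^ i.down, i.down, rfl⟩ : Submonoid.powers f)
    simp only [map_one] at hm
    linear_combination -(algebraMap Λ (Localization.Away f) (c i) *
      algebraMap Λ (Localization.Away f) (f ^ (N - i.down))) * hm
  obtain ⟨⟨_, k, rfl⟩, hk⟩ := (IsLocalization.map_eq_zero_iff (Submonoid.powers f) (Localization.Away f) _).1 e2
  rw [e1, hpow N k, smul_smul, mul_comm, hk, zero_smul]

/-- The telescope presentation of `j_{U!} Λ_f`. -/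
theorem exists_shortExact (U : X.ProEt) (f : Λ) :
    ∃ (q : (copow I0.{u}).obj (free U) ⟶ ProEtDC.locExt Λ U f) (w : (delta I0 succ0 (theta f)).app (free U) ≫ q = 0),
      (ShortComplex.mk _ q w).ShortExact := by
  let un : ModuleCat.of Λ (Localization.Away f) ⟶ (secF U).obj (ProEtDC.locExt Λ U f) :=
    (jAdj U).unit.app _
  obtain ⟨q, hq⟩ := (eltPow_bijective U (ProEtDC.locExt Λ U f)).2 fun i => un.hom (genMap f (Finsupp.single i 1))
  have w : (delta I0 succ0 (theta f)).app (free U) ≫ q = 0 := by
    refine (eltPow_bijective U _).1 ?_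
    rw [eltPow_delta, hq, show (0 : (copow I0.{u}).obj (free U) ⟶ ProEtDC.locExt Λ U f) = q ≫ 0 from
      comp_zero.symm, eltPow_comp]
    funext i
    show un.hom _ - f • un.hom _ = 0
    rw [← map_smul, ← map_smul, ← map_sub]
    convert map_zero un.hom
    simp [genMap, succ0, IsLocalization.smul_mk', sub_eq_zero, IsLocalization.mk'_eq_iff_eq, pow_succ]
  have hfac : ∀ {G : ModP Λ X} (h : ProEtDC.locExt Λ U f ⟶ G) (c : I0.{u} →₀ Λ),
      ((jAdj U).homEquiv (ModuleCat.of Λ (Localization.Away f)) G h).hom (genMap f c) =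
        Finsupp.linearCombination Λ (eltPow U (q ≫ h)) c := fun h c => by
    induction c using Finsupp.induction_linear with
    | zero => exact ((congrArg _ (map_zero _)).trans (map_zero _)).trans (map_zero _).symm
    | add a b ha hb =>
      rw [map_add, map_add, map_add, ha, hb]
    | single i a =>
      rw [Finsupp.linearCombination_single, eltPow_comp, hq,
        show Finsupp.single i a = a • Finsupp.single i 1 by simp, map_smul, map_smul, Adjunction.homEquiv_unit]
      rfl
  let φ : ∀ {G : ModP Λ X} (g : (copow I0.{u}).obj (free U) ⟶ G) (_ : (delta I0 succ0 (theta f)).app (free U) ≫ g = 0),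
      Localization.Away f →ₗ[Λ] G.obj.obj (op U) := fun g hg =>
    ((LinearMap.ker (genMap f)).liftQ (Finsupp.linearCombination Λ (eltPow U g)) fun c hc =>
        LinearMap.mem_ker.2 (linearCombination_eq_zero f _ (by
          rw [← eltPow_delta, hg, ← comp_zero (f := (0 : (copow I0.{u}).obj (free U) ⟶ (copow I0.{u}).obj (free U))),
            eltPow_comp]
          rfl) c hc)).comp
      ((genMap f).quotKerEquivOfSurjective (genMap_surjective f)).symm.toLinearMap
  have hφ : ∀ {G : ModP Λ X} (g : (copow I0.{u}).obj (free U) ⟶ G)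
      (hg : (delta I0 succ0 (theta f)).app (free U) ≫ g = 0) (c : I0.{u} →₀ Λ),
      φ g hg (genMap f c) = Finsupp.linearCombination Λ (eltPow U g) c := fun g hg c => by
    simp only [φ, LinearMap.comp_apply, LinearEquiv.coe_coe]
    rw [show ((genMap f).quotKerEquivOfSurjective (genMap_surjective f)).symm (genMap f c) =
      Submodule.Quotient.mk c from (LinearEquiv.symm_apply_eq _).2 rfl]
    rfl
  haveI := mono_delta (theta (X := X) f) (free U)
  have hcoker : IsColimit (CokernelCofork.ofπ q w) := CokernelCofork.IsColimit.ofπ _ _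
    (fun {G} g hg => ((jAdj U).homEquiv (ModuleCat.of Λ (Localization.Away f)) G).symm (ModuleCat.ofHom (φ g hg)))
    (fun {G} g hg => by
      refine (eltPow_bijective U G).1 (funext fun i => ?_)
      have h := hfac (((jAdj U).homEquiv (ModuleCat.of Λ (Localization.Away f)) G).symm (ModuleCat.ofHom (φ g hg)))
        (Finsupp.single i 1)
      rw [Finsupp.linearCombination_single, one_smul, Equiv.apply_symm_apply] at h
      rw [← h]
      exact (hφ g hg _).trans ((Finsupp.linearCombination_single _ _ _).trans (one_smul _ _)))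
    (fun {G} g hg m hm => by
      apply ((jAdj U).homEquiv (ModuleCat.of Λ (Localization.Away f)) G).injective
      rw [Equiv.apply_symm_apply]
      ext x
      obtain ⟨c, rfl⟩ := genMap_surjective f x
      rw [hfac, hm]
      exact (hφ g hg c).symm)
  haveI : Epi q := epi_of_isColimit_cofork hcoker
  exact ⟨q, w, { exact := ShortComplex.exact_of_g_is_cokernel _ hcoker }⟩

/-- The condition on sections. -/
def SecDC (I : Ideal Λ) (F : ModP Λ X) : Prop :=
  ∀ f ∈ I, ∀ W : X.ProEt, ProEtS.IsWC W → Function.Bijective (shiftSub f : (I0.{u} → F.obj.obj (op W)) → _)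

theorem orthogonal_locExt {f : Λ} {K : ProEtDC.DP Λ X} (hK : Cond I0.{u} succ0 (theta f) K) (U : X.ProEt) (n : ℤ) :
    Subsingleton ((DerivedCategory.singleFunctor (ModP Λ X) 0).obj (ProEtDC.locExt Λ U f) ⟶ K⟦n⟧) := by
  obtain ⟨q, w, hS⟩ := exists_shortExact U f
  exact (orthogonal_iff hS K).2 (fun m => bijective_delta I0 succ0 (theta f) _ (hK.shift m) (free U)) n

theorem isDC_iff (I : Ideal Λ) (K : ProEtDC.DP Λ X) :
    ProEtDC.IsDC Λ I K ↔ ∀ p : ℤ, SecDC I (ProEtDC.HDP K p) := by
  constructor
  · intro h p f hf W hW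
    refine (isIso_tau_iff f _).1 (isIso_tau_of_iso
      (((DerivedCategory.homologyFunctor (ModP Λ X) 0).shiftIso p 0 p (by simp)).app K) ?_) W hW
    refine isIso_of_bijective_wc _ fun V hV => ?_
    obtain ⟨q, w, hS⟩ := exists_shortExact V f
    haveI := projective_free (Λ := Λ) hV
    haveI := projective_copow I0.{u} (free (Λ := Λ) V)
    have hb := bijective_tau_of_bijective_delta I0 succ0 (theta f) (free V) _
      ((orthogonal_iff hS K).1 (fun n => h V f hf n) p)
    let H := (DerivedCategory.homologyFunctor (ModP Λ X) 0).obj ((shiftFunctor (ProEtDC.DP Λ X) p).obj K)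
    rw [← (elt_bijective (Λ := Λ) V ((pow I0.{u}).obj H)).of_comp_iff'] at hb
    show Function.Bijective (((tau I0 succ0 (theta f)).app H).hom.app (op V))
    refine (Function.Bijective.of_comp_iff _ (elt_bijective (Λ := Λ) V ((pow I0.{u}).obj H))).1 ?_
    exact cast (congrArg Function.Bijective
      (funext fun g => elt_comp (Λ := Λ) V g ((tau I0 succ0 (theta f)).app H))) hb
  · intro h U f hf n
    exact orthogonal_locExt (fun p => (isIso_tau_iff f _).2 (h p f hf)) U n

theorem isDCSheaf_iff (I : Ideal Λ) (F : ModP Λ X) : ProEtDC.IsDCSheaf Λ I F ↔ SecDC I F := by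
  constructor
  · intro h f hf W hW
    obtain ⟨q, w, hS⟩ := exists_shortExact W f
    let d := (delta I0 succ0 (theta f)).app (free (Λ := Λ) W)
    have hd : Function.Bijective fun g : (copow I0.{u}).obj (free W) ⟶ F => d ≫ g := by
      refine ⟨(injective_iff_map_eq_zero (Preadditive.leftComp F d)).2 fun g hg => ?_, fun g => ?_⟩
      · haveI : Subsingleton (ProEtDC.locExt Λ W f ⟶ F) :=
          haveI := h W f hf 0
          (Abelian.Ext.homEquiv₀.{u + 1} (X := ProEtDC.locExt Λ W f) (Y := F)).symm.subsingleton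
        haveI := hS.epi_g
        rw [← hS.exact.g_desc g hg, Subsingleton.elim (hS.exact.desc g hg) 0, comp_zero]
      · haveI := h W f hf 1
        obtain ⟨x, hx⟩ := Abelian.Ext.contravariant_sequence_exact₁ hS F (Abelian.Ext.mk₀ g) (add_comm 1 0)
          (Subsingleton.elim _ _)
        obtain ⟨x, rfl⟩ := (Abelian.Ext.mk₀_bijective _ _).2 x
        rw [Abelian.Ext.mk₀_comp_mk₀] at hx
        exact ⟨x, (Abelian.Ext.mk₀_bijective _ _).1 hx⟩
    rw [← Function.Bijective.of_comp_iff _ (eltPow_bijective W F)]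
    have e : shiftSub f ∘ eltPow W (F := F) = eltPow W (F := F) ∘ fun g => d ≫ g :=
      funext fun g => (eltPow_delta f W g).symm
    rw [e]
    exact (eltPow_bijective W F).comp hd
  · intro h U f hf n
    let K := (DerivedCategory.singleFunctor (ModP Λ X) 0).obj F
    haveI := orthogonal_locExt (f := f) (K := K) (fun p => by
      by_cases hp : p = 0
      · subst hp
        exact isIso_tau_of_iso ((DerivedCategory.singleFunctorCompHomologyFunctorIso _ 0).app F).symm
          ((isIso_tau_iff f F).2 (h f hf))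
      · have hz : IsZero ((DerivedCategory.homologyFunctor (ModP Λ X) p).obj K) :=
          (HomologicalComplex.isZero_single_obj_homology _ _ _ _ hp).of_iso
            ((DerivedCategory.homologyFunctorFactors _ p).app _)
        exact ⟨0, ((pow I0.{u}).map_isZero hz).eq_of_src _ _, ((pow I0.{u}).map_isZero hz).eq_of_src _ _⟩) U (n : ℤ)
    exact Abelian.Ext.homEquiv.{u + 2, u + 1}.subsingleton

end Groth.Agent.ProEtDC1
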